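import Cfsg.Agent.Lib.CamKan.Basic

/-!
# Antiflag-transitive groups over `𝔽₂`

`U ρ v` is the complement of the large orbit of the stabiliser of `v`; it is a subspace.
-/

set_option autoImplicit false

namespace Cfsg.Agent.CamKan

open Module

/-- The span of the short orbits of the stabiliser of `v`. -/
noncomputable def U {G : Type*} [Group G] {V : Type*} [AddCommGroup V] [Module (ZMod 2) V]
    (ρ : G →* (V ≃ₗ[ZMod 2] V)) (v : V) : Submodule (ZMod 2) V :=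
  Submodule.span (ZMod 2) {w | (orb ρ (stab ρ v) w).ncard < 2 ^ (finrank (ZMod 2) V - 1)}

open Classical in
/-- The common dimension of the subspaces `U ρ v`. -/
noncomputable def par {G : Type*} [Group G] {V : Type*} [AddCommGroup V] [Module (ZMod 2) V]
    (ρ : G →* (V ≃ₗ[ZMod 2] V)) : ℕ :=
  if h : ∃ v : V, v ≠ 0 then finrank (ZMod 2) (U ρ h.choose) else 0

namespace Duo

variable {G : Type*} [Group G] {V V' : Type*} [AddCommGroup V] [Module (ZMod 2) V]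
  [AddCommGroup V'] [Module (ZMod 2) V']

/-- Transitivity on vectors, on functionals, and of stabilisers on the affine hyperplane. -/
structure Ant (D : Duo G V V') : Prop where
  two_le : 2 ≤ finrank (ZMod 2) V
  trans : ∀ v w : V, v ≠ 0 → w ≠ 0 → ∃ g, D.ρ g v = w
  trans' : ∀ f f' : V', f ≠ 0 → f' ≠ 0 → ∃ g, D.σ g f = f'
  flag : ∀ f v w, D.b v f = 1 → D.b w f = 1 → ∃ g ∈ stab D.σ f, D.ρ g v = w

/-- The points whose subspace lies in the hyperplane of `f`. -/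
def Z (D : Duo G V V') (f : V') : Set V := {v | v ≠ 0 ∧ ∀ u ∈ U D.ρ v, D.b u f = 0}

variable {D : Duo G V V'} [Finite V]

theorem Ant.swap (h : D.Ant) : D.swap.Ant where
  two_le := by rw [D.finrank_eq]; exact h.two_le
  trans := h.trans'
  trans' := h.trans
  flag v f f' h1 h2 := by
    have hne : ∀ u, D.b v u = 1 → u ≠ 0 := fun u e hu => by simp [hu] at e
    obtain ⟨k, hk⟩ := h.trans' f f' (hne f h1) (hne f' h2)
    have h3 : D.b (D.ρ k v) f' = 1 := by rw [← hk, D.b_smul]; exact h1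
    obtain ⟨g, hg, hgv⟩ := h.flag f' _ v h3 h2
    refine ⟨g * k, ?_, ?_⟩
    · change D.ρ (g * k) v = v
      rw [mul_apply', hgv]
    · change D.σ (g * k) f = f'
      rw [mul_apply', hk, (mem_stab _).1 hg]

namespace Ant

theorem nontrivial (h : D.Ant) : ∃ v : V, v ≠ 0 := by
  haveI : Nontrivial V := by
    rw [← Finite.one_lt_card_iff_nontrivial, card_pow]
    exact Nat.one_lt_two_pow (by have := h.two_le; omega)
  exact exists_ne 0

variable (h : D.Ant)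
include h

theorem pow_eq : 2 ^ finrank (ZMod 2) V = 2 * 2 ^ (finrank (ZMod 2) V - 1) := by
  rw [← pow_succ', Nat.sub_add_cancel (by have := h.two_le; omega)]

theorem two_le_pow : 2 ≤ 2 ^ (finrank (ZMod 2) V - 1) :=
  le_self_pow₀ one_le_two (by have := h.two_le; omega) |>.trans' le_rfl

theorem flag_orb {f : V'} {v : V} (hv : D.b v f = 1) :
    orb D.ρ (stab D.σ f) v = {w | D.b w f = 1} := by
  ext w
  constructor
  · rintro ⟨g, hg, rfl⟩; exact (D.b_stab hg v).trans hv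
  · exact h.flag f v w hv

theorem card_flag {f : V'} (hf : f ≠ 0) :
    {w | D.b w f = 1}.ncard = 2 ^ (finrank (ZMod 2) V - 1) :=
  ncard_one (φ := D.b.flip f) (D.flip_ne_zero hf)

theorem card_ker_diff {f : V'} (hf : f ≠ 0) :
    {w | w ≠ 0 ∧ D.b w f = 0}.ncard = 2 ^ (finrank (ZMod 2) V - 1) - 1 := by
  have h1 := finrank_ker_dual (φ := D.b.flip f) (D.flip_ne_zero hf)
  have he : {w | w ≠ 0 ∧ D.b w f = 0} = (LinearMap.ker (D.b.flip f) : Set V) \ {0} := by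
    ext w; simp [and_comm]
  rw [he, ncard_diff_zero]
  congr 2
  omega

variable [Finite G]

theorem exists_T {f : V'} (hf : f ≠ 0) :
    ∃ T ≤ stab D.σ f, IsPGroup 2 T ∧ ∀ v, D.b v f = 1 → orb D.ρ T v = {w | D.b w f = 1} := by
  obtain ⟨v₀, hv₀⟩ := D.exists_one hf
  obtain ⟨T, hT, hp, he⟩ := exists_two_trans (ρ := D.ρ) (stab D.σ f) v₀
    (by rw [h.flag_orb hv₀]; exact h.card_flag hf)
  rw [h.flag_orb hv₀] at he
  refine ⟨T, hT, hp, fun v hv => ?_⟩
  exact (orb_eq_of_mem (show v ∈ orb D.ρ T v₀ by rw [he]; exact hv)).trans he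

theorem exists_fixed_of_odd {f : V'} (hf : f ≠ 0) {A : Set V}
    (hA : ∀ g ∈ stab D.σ f, ∀ a ∈ A, D.ρ g a ∈ A) (hodd : Odd A.ncard) :
    ∃ T ≤ stab D.σ f, ∃ a ∈ A,
      T ≤ stab D.ρ a ∧ ∀ v, D.b v f = 1 → orb D.ρ T v = {w | D.b w f = 1} := by
  obtain ⟨T, hT, hp, ho⟩ := h.exists_T hf
  obtain ⟨a, ha, hfix⟩ := exists_fixed hp (fun g hg => hA g (hT hg)) hodd
  exact ⟨T, hT, a, ha, fun g hg => hfix g hg, ho⟩

omit [Finite G] in
theorem big_unique {v w w' : V} (hv : v ≠ 0)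
    (hw : 2 ^ (finrank (ZMod 2) V - 1) ≤ (orb D.ρ (stab D.ρ v) w).ncard)
    (hw' : 2 ^ (finrank (ZMod 2) V - 1) ≤ (orb D.ρ (stab D.ρ v) w').ncard) :
    w' ∈ orb D.ρ (stab D.ρ v) w := by
  have h2 := h.two_le_pow
  have hno : ∀ u, 2 ^ (finrank (ZMod 2) V - 1) ≤ (orb D.ρ (stab D.ρ v) u).ncard →
      orb D.ρ (stab D.ρ v) u ⊆ ({0, v} : Set V)ᶜ := by
    intro u hu z hz hz'
    have hfix : ∀ g ∈ stab D.ρ v, D.ρ g z = z := by
      rcases hz' with rfl | rfl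
      · simp
      · exact fun g hg => hg
    have : orb D.ρ (stab D.ρ v) z = {z} := by
      ext y
      refine ⟨?_, fun hy => hy ▸ self_mem_orb _ _⟩
      rintro ⟨g, hg, rfl⟩; exact hfix g hg
    rw [← orb_eq_of_mem hz, this, Set.ncard_singleton] at hu
    omega
  by_contra hne
  have hdisj : Disjoint (orb D.ρ (stab D.ρ v) w) (orb D.ρ (stab D.ρ v) w') :=
    Set.disjoint_left.2 fun z hz hz' => hne <| by
      rw [← orb_eq_of_mem hz, orb_eq_of_mem hz']; exact self_mem_orb _ _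
  have hle : (orb D.ρ (stab D.ρ v) w ∪ orb D.ρ (stab D.ρ v) w').ncard ≤
      (({0, v} : Set V)ᶜ).ncard :=
    Set.ncard_le_ncard (Set.union_subset (hno w hw) (hno w' hw')) (Set.toFinite _)
  rw [Set.ncard_union_eq hdisj] at hle
  have h3 := Set.ncard_add_ncard_compl ({0, v} : Set V)
  rw [Set.ncard_pair hv.symm, card_pow, h.pow_eq] at h3
  omega

/-- Every non-zero vector has a functional killing all its short orbits. -/
theorem exists_killer {v : V} (hv : v ≠ 0) :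
    ∃ f : V', f ≠ 0 ∧ D.b v f = 0 ∧
      ∀ u, D.b u f = 1 → 2 ^ (finrank (ZMod 2) V - 1) ≤ (orb D.ρ (stab D.ρ v) u).ncard := by
  haveI := D.finite_right
  obtain ⟨f₀, hf₀⟩ := h.swap.nontrivial
  have hodd : Odd {w | w ≠ 0 ∧ D.b w f₀ = 0}.ncard := by
    rw [h.card_ker_diff hf₀]
    have := h.two_le_pow
    refine Nat.Even.sub_odd (by omega) ?_ odd_one
    exact (Nat.even_pow).2 ⟨even_two, by have := h.two_le; omega⟩
  obtain ⟨T, hT, a, ⟨ha0, haf⟩, hTa, ho⟩ := h.exists_fixed_of_odd hf₀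
    (A := {w | w ≠ 0 ∧ D.b w f₀ = 0})
    (fun g hg w hw => ⟨by simp [hw.1], (D.b_stab hg w).trans hw.2⟩) hodd
  obtain ⟨k, hk⟩ := h.trans a v ha0 hv
  refine ⟨D.σ k f₀, by simp [hf₀], by rw [← hk, D.b_smul]; exact haf, fun u hu => ?_⟩
  obtain ⟨u₀, rfl⟩ : ∃ u₀, D.ρ k u₀ = u := ⟨_, apply_inv' D.ρ k u⟩
  rw [D.b_smul] at hu
  rw [← hk, orb_conj, Set.ncard_image_of_injective _ (D.ρ k).injective]
  refine le_of_eq_of_le ?_ (Set.ncard_le_ncard (orb_mono hTa u₀) (Set.toFinite _))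
  rw [ho u₀ hu, h.card_flag hf₀]

theorem exists_U_le {v : V} (hv : v ≠ 0) :
    ∃ f : V', f ≠ 0 ∧ ∀ u ∈ U D.ρ v, D.b u f = 0 := by
  obtain ⟨f, hf, -, hbig⟩ := h.exists_killer hv
  refine ⟨f, hf, fun u hu => ?_⟩
  have : U D.ρ v ≤ LinearMap.ker (D.b.flip f) := Submodule.span_le.2 fun w hw => by
    rcases z2 (D.b w f) with h1 | h1
    · exact h1
    · exact absurd (hbig w h1) (not_le.2 hw)
  exact this hu

omit h [Finite G] in
theorem U_map (g : G) (v : V) : U D.ρ (D.ρ g v) = (U D.ρ v).map (D.ρ g).toLinearMap := by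
  rw [U, U, Submodule.map_span]
  congr 1
  ext w
  obtain ⟨w₀, rfl⟩ : ∃ w₀, D.ρ g w₀ = w := ⟨_, apply_inv' D.ρ g w⟩
  simp [orb_conj, Set.ncard_image_of_injective _ (D.ρ g).injective]

omit [Finite G] in
theorem U_invariant {v : V} {g : G} (hg : g ∈ stab D.ρ v) {u : V} (hu : u ∈ U D.ρ v) :
    D.ρ g u ∈ U D.ρ v := by
  have := U_map (D := D) g v
  rw [(mem_stab _).1 hg] at this
  rw [this]
  exact Submodule.mem_map_of_mem hu

theorem mem_U {v w : V} (hv : v ≠ 0) :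
    w ∈ U D.ρ v ↔ (orb D.ρ (stab D.ρ v) w).ncard < 2 ^ (finrank (ZMod 2) V - 1) := by
  refine ⟨fun hw => ?_, fun hw => Submodule.subset_span hw⟩
  by_contra hbig
  obtain ⟨f, hf, hk⟩ := h.exists_U_le hv
  obtain ⟨w₀, hw₀⟩ := D.exists_one hf
  have hw₀' : w₀ ∉ U D.ρ v := fun hmem => by simp [hk w₀ hmem] at hw₀
  have hbig₀ : ¬ (orb D.ρ (stab D.ρ v) w₀).ncard < 2 ^ (finrank (ZMod 2) V - 1) :=
    fun hlt => hw₀' (Submodule.subset_span hlt)
  obtain ⟨g, hg, hgw⟩ := h.big_unique hv (not_lt.1 hbig) (not_lt.1 hbig₀)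
  exact hw₀' (hgw ▸ h.U_invariant hg hw)

theorem trans_compl {v a c : V} (hv : v ≠ 0) (ha : a ∉ U D.ρ v) (hc : c ∉ U D.ρ v) :
    ∃ g ∈ stab D.ρ v, D.ρ g a = c :=
  h.big_unique hv (not_lt.1 (mt (h.mem_U hv).2 ha)) (not_lt.1 (mt (h.mem_U hv).2 hc))

theorem self_mem {v : V} (hv : v ≠ 0) : v ∈ U D.ρ v := by
  rw [h.mem_U hv]
  have : orb D.ρ (stab D.ρ v) v = {v} := by
    ext y
    refine ⟨?_, fun hy => hy ▸ self_mem_orb _ _⟩
    rintro ⟨g, hg, rfl⟩; exact hg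
  rw [this, Set.ncard_singleton]
  have := h.two_le_pow
  omega

omit [Finite G] in
theorem card_orb_top {v : V} (hv : v ≠ 0) :
    (orb D.ρ ⊤ v).ncard = 2 ^ finrank (ZMod 2) V - 1 := by
  have : orb D.ρ ⊤ v = (Set.univ : Set V) \ {0} := by
    ext w
    constructor
    · rintro ⟨g, -, rfl⟩; exact ⟨trivial, by simp [hv]⟩
    · intro hw
      obtain ⟨g, hg⟩ := h.trans v w hv hw.2
      exact ⟨g, trivial, hg⟩
  rw [this, Set.ncard_diff_singleton_of_mem (Set.mem_univ _), Set.ncard_univ, card_pow]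

omit [Finite G] in
theorem card_stab_eq {v w : V} (hv : v ≠ 0) (hw : w ≠ 0) :
    Nat.card (stab D.ρ v) = Nat.card (stab D.ρ w) := by
  have h1 := orb_card (ρ := D.ρ) ⊤ v
  have h2 := orb_card (ρ := D.ρ) ⊤ w
  rw [h.card_orb_top hv, top_inf_eq] at h1
  rw [h.card_orb_top hw, top_inf_eq] at h2
  refine Nat.eq_of_mul_eq_mul_left ?_ (h1.trans h2.symm)
  have := h.pow_eq
  have := h.two_le_pow
  omega

theorem U_symm {v w : V} (hv : v ≠ 0) (hw : w ≠ 0) (hwv : w ∈ U D.ρ v) : v ∈ U D.ρ w := by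
  rw [h.mem_U hv] at hwv
  rw [h.mem_U hw]
  have h1 := orb_card (ρ := D.ρ) (stab D.ρ v) w
  have h2 := orb_card (ρ := D.ρ) (stab D.ρ w) v
  rw [inf_comm, ← h.card_stab_eq hv hw, ← h1] at h2
  rw [Nat.eq_of_mul_eq_mul_right Nat.card_pos h2]
  exact hwv

theorem U_inter {v w u : V} (hv : v ≠ 0) (hw : w ≠ 0) (hvw : v + w ≠ 0) (huv : u ∈ U D.ρ v)
    (huw : u ∈ U D.ρ w) : u ∈ U D.ρ (v + w) := by
  by_cases hu : u = 0
  · rw [hu]; exact zero_mem _
  · exact h.U_symm hu hvw (add_mem (h.U_symm hv hu huv) (h.U_symm hw hu huw))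

omit [Finite G] in
theorem dim_U {v : V} (hv : v ≠ 0) : finrank (ZMod 2) (U D.ρ v) = par D.ρ := by
  have hex : ∃ v : V, v ≠ 0 := ⟨v, hv⟩
  rw [par, dif_pos hex]
  obtain ⟨g, hg⟩ := h.trans _ v hex.choose_spec hv
  rw [← hg, U_map]
  exact LinearEquiv.finrank_map_eq _ _

theorem one_le_par : 1 ≤ par D.ρ := by
  obtain ⟨v, hv⟩ := h.nontrivial
  rw [← h.dim_U hv]
  exact Submodule.one_le_finrank_iff.2 fun hb => hv (by simpa [hb] using h.self_mem hv)

theorem par_lt : par D.ρ < finrank (ZMod 2) V := by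
  obtain ⟨v, hv⟩ := h.nontrivial
  obtain ⟨f, hf, hk⟩ := h.exists_U_le hv
  obtain ⟨u, hu⟩ := D.exists_one hf
  rw [← h.dim_U hv]
  exact Submodule.finrank_lt fun ht => by simp [hk u (ht ▸ trivial)] at hu

theorem U_orb_eq {v : V} (hv : v ≠ 0) {a : V} (ha : a ∉ U D.ρ v) :
    orb D.ρ (stab D.ρ v) a = (U D.ρ v : Set V)ᶜ := by
  ext c
  constructor
  · rintro ⟨g, hg, rfl⟩ hc
    exact ha (by simpa [inv_apply'] using h.U_invariant ((stab D.ρ v).inv_mem hg) hc)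
  · exact fun hc => h.trans_compl hv ha hc

omit [Finite G] in
theorem finrank_ann (W : Submodule (ZMod 2) V) :
    finrank (ZMod 2) (D.ann W) + finrank (ZMod 2) W = finrank (ZMod 2) V := by
  have := (D.quo (S := (⊥ : Subgroup G)) (W := W) (fun g hg w hw => by
    rw [Subgroup.mem_bot.1 hg]; simpa using hw)).finrank_eq
  rw [this, add_comm]
  exact W.finrank_quotient_add_finrank |>.symm ▸ (add_comm _ _)

/-- The stabiliser of `v` is transitive on the non-zero functionals killing `U v`. -/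
theorem ann_trans {v : V} (hv : v ≠ 0) {f f' : V'} (hf : f ≠ 0) (hf' : f' ≠ 0)
    (hk : ∀ u ∈ U D.ρ v, D.b u f = 0) (hk' : ∀ u ∈ U D.ρ v, D.b u f' = 0) :
    ∃ g ∈ stab D.ρ v, D.σ g f = f' := by
  let Q := D.quo (S := stab D.ρ v) (W := U D.ρ v) fun g hg w hw => h.U_invariant hg hw
  haveI : Nontrivial (V ⧸ U D.ρ v) := Submodule.Quotient.nontrivial_iff.2 fun ht => by
    have := h.par_lt
    rw [← h.dim_U hv, ht, finrank_top] at this
    omega
  obtain ⟨g, -, hg⟩ := Q.trans_dual ⊤ (fun a c ha hc => by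
    induction a using Submodule.Quotient.induction_on with | H a => ?_
    induction c using Submodule.Quotient.induction_on with | H c => ?_
    rw [Ne, Submodule.Quotient.mk_eq_zero] at ha hc
    obtain ⟨g, hg, he⟩ := h.trans_compl hv ha hc
    exact ⟨⟨g, hg⟩, trivial, congrArg Submodule.Quotient.mk he⟩)
    ⟨f, hk⟩ ⟨f', hk'⟩ (fun e => hf (congrArg Subtype.val e))
    (fun e => hf' (congrArg Subtype.val e))
  exact ⟨g.1, g.2, congrArg Subtype.val hg⟩

theorem Z_invariant {f : V'} {g : G} (hg : g ∈ stab D.σ f) {v : V} (hv : v ∈ D.Z f) :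
    D.ρ g v ∈ D.Z f := by
  refine ⟨by simp [hv.1], ?_⟩
  rw [U_map]
  rintro _ ⟨u, hu, rfl⟩
  exact (D.b_stab hg u).trans (hv.2 u hu)

theorem Z_trans {f : V'} (hf : f ≠ 0) {v w : V} (hv : v ∈ D.Z f) (hw : w ∈ D.Z f) :
    ∃ g ∈ stab D.σ f, D.ρ g v = w := by
  obtain ⟨k, hk⟩ := h.trans v w hv.1 hw.1
  obtain ⟨g, hg, hgf⟩ := h.ann_trans hw.1 (f := D.σ k f) (f' := f) (by simp [hf]) hf
    (by
      rw [← hk, U_map]
      rintro _ ⟨u, hu, rfl⟩
      exact (D.b_smul k u f).trans (hv.2 u hu)) hw.2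
  exact ⟨g * k, by rw [mem_stab, mul_apply', hgf], by rw [mul_apply', hk, (mem_stab _).1 hg]⟩

theorem Z_nonempty {f : V'} (hf : f ≠ 0) : (D.Z f).Nonempty := by
  obtain ⟨v, hv⟩ := h.nontrivial
  obtain ⟨f₀, hf₀, hk⟩ := h.exists_U_le hv
  obtain ⟨g, rfl⟩ := h.trans' f₀ f hf₀ hf
  refine ⟨D.ρ g v, by simp [hv], ?_⟩
  rw [U_map]
  rintro _ ⟨u, hu, rfl⟩
  exact (D.b_smul g u f₀).trans (hk u hu)

theorem Z_orb {f : V'} (hf : f ≠ 0) {v : V} (hv : v ∈ D.Z f) :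
    orb D.ρ (stab D.σ f) v = D.Z f := by
  ext w
  refine ⟨?_, fun hw => h.Z_trans hf hv hw⟩
  rintro ⟨g, hg, rfl⟩; exact h.Z_invariant hg hv

theorem Z_card {f : V'} (hf : f ≠ 0) :
    (D.Z f).ncard = 2 ^ (finrank (ZMod 2) V - par D.ρ) - 1 := by
  haveI := D.finite_right
  obtain ⟨v, hv⟩ := h.Z_nonempty hf
  have hA : orb D.σ (stab D.ρ v) f = (D.ann (U D.ρ v) : Set V') \ {0} := by
    ext f'
    constructor
    · rintro ⟨g, hg, rfl⟩
      refine ⟨fun u hu => ?_, by simp [hf]⟩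
      conv_lhs => rw [← apply_inv' D.ρ g u, D.b_smul]
      exact hv.2 _ (h.U_invariant ((stab D.ρ v).inv_mem hg) hu)
    · exact fun hf' => h.ann_trans hv.1 hf hf'.2 hv.2 hf'.1
  have h1 := orb_card (ρ := D.ρ) (stab D.σ f) v
  have h2 := orb_card (ρ := D.σ) (stab D.ρ v) f
  have h3 := orb_card (ρ := D.ρ) ⊤ v
  have h4 := orb_card (ρ := D.σ) ⊤ f
  rw [h.Z_orb hf hv] at h1
  rw [hA, ncard_diff_zero, inf_comm] at h2
  rw [h.card_orb_top hv.1, top_inf_eq] at h3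
  rw [show (orb D.σ ⊤ f).ncard = _ from h.swap.card_orb_top hf, D.finrank_eq, top_inf_eq] at h4
  have hs : Nat.card (stab D.ρ v) = Nat.card (stab D.σ f) := by
    refine Nat.eq_of_mul_eq_mul_left ?_ (h3.trans h4.symm)
    have := h.pow_eq
    have := h.two_le_pow
    omega
  rw [hs, ← h1] at h2
  rw [Nat.eq_of_mul_eq_mul_right Nat.card_pos h2.symm]
  congr 2
  have := h.finrank_ann (U D.ρ v)
  rw [h.dim_U hv.1] at this
  omega

theorem Z_odd {f : V'} (hf : f ≠ 0) : Odd (D.Z f).ncard := by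
  rw [h.Z_card hf]
  have := h.par_lt
  exact Nat.Even.sub_odd Nat.one_le_two_pow
    ((Nat.even_pow).2 ⟨even_two, by omega⟩) odd_one

/-- A vector fixed by a group transitive on `{b · f = 1}` lies in `Z f`. -/
theorem fixed_mem_Z {f : V'} (hf : f ≠ 0) {T : Subgroup G}
    (ho : ∀ u, D.b u f = 1 → orb D.ρ T u = {w | D.b w f = 1}) {v : V} (hv : v ≠ 0)
    (hfix : T ≤ stab D.ρ v) : v ∈ D.Z f := by
  refine ⟨hv, fun u hu => ?_⟩
  rcases z2 (D.b u f) with h1 | h1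
  · exact h1
  · rw [h.mem_U hv] at hu
    have := Set.ncard_le_ncard (orb_mono (ρ := D.ρ) hfix u) (Set.toFinite _)
    rw [ho u h1, h.card_flag hf] at this
    omega

/-- `Z f` is a subspace without zero: the annihilator of the dual subspace at `f`. -/
theorem Z_eq {f : V'} (hf : f ≠ 0) :
    D.Z f = (D.swap.ann (U D.σ f) : Set V) \ {0} ∧ par D.σ = par D.ρ := by
  haveI := D.finite_right
  have hs := h.swap
  set A : Set V := (D.swap.ann (U D.σ f) : Set V) \ {0} with hA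
  have hinv : ∀ g ∈ stab D.σ f, ∀ a ∈ A, D.ρ g a ∈ A := by
    rintro g hg a ⟨ha, ha0⟩
    refine ⟨fun u hu => ?_, by simpa using ha0⟩
    change D.b (D.ρ g a) u = 0
    rw [D.b_inv_left]
    exact ha _ (hs.U_invariant ((stab D.σ f).inv_mem hg) hu)
  have hfr : finrank (ZMod 2) (D.swap.ann (U D.σ f)) + par D.σ = finrank (ZMod 2) V := by
    have := hs.finrank_ann (U D.σ f)
    rw [show finrank (ZMod 2) (U D.σ f) = par D.σ from hs.dim_U hf, D.finrank_eq] at this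
    exact this
  have hlt : par D.σ < finrank (ZMod 2) V := D.finrank_eq ▸ hs.par_lt
  have hodd : Odd A.ncard := by
    rw [hA, ncard_diff_zero]
    exact Nat.Even.sub_odd Nat.one_le_two_pow
      ((Nat.even_pow).2 ⟨even_two, by omega⟩) odd_one
  obtain ⟨T, hT, a, ha, hTa, ho⟩ := h.exists_fixed_of_odd hf hinv hodd
  have haZ : a ∈ D.Z f := h.fixed_mem_Z hf ho ha.2 hTa
  have heq : D.Z f = A := by
    refine Set.Subset.antisymm ?_ ?_
    · rw [← h.Z_orb hf haZ]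
      rintro _ ⟨g, hg, rfl⟩
      exact hinv g hg a ha
    · intro w hw
      obtain ⟨g, hg, rfl⟩ := hs.ann_trans (v := f) hf (f := a) (f' := w) ha.2 hw.2 ha.1 hw.1
      exact h.Z_invariant hg haZ
  refine ⟨heq, ?_⟩
  have hc := h.Z_card hf
  rw [heq, hA, ncard_diff_zero] at hc
  have hp := h.par_lt
  have he : 2 ^ finrank (ZMod 2) (D.swap.ann (U D.σ f)) =
      2 ^ (finrank (ZMod 2) V - par D.ρ) := by
    have := Nat.one_le_two_pow (n := finrank (ZMod 2) (D.swap.ann (U D.σ f)))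
    have := Nat.one_le_two_pow (n := finrank (ZMod 2) V - par D.ρ)
    omega
  have := Nat.pow_right_injective le_rfl he
  omega

theorem par_swap : par D.σ = par D.ρ := by
  haveI := D.finite_right
  obtain ⟨f, hf⟩ := h.swap.nontrivial
  exact (h.Z_eq hf).2

theorem Z_add {f : V'} (hf : f ≠ 0) {v w : V} (hv : v ∈ D.Z f) (hw : w ∈ D.Z f)
    (hvw : v + w ≠ 0) : v + w ∈ D.Z f := by
  rw [(h.Z_eq hf).1] at *
  exact ⟨add_mem hv.1 hw.1, hvw⟩

end Ant

end Duo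

end Cfsg.Agent.CamKan
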