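import Mathlib

/-!
# Finite `𝔽₂`-modules in duality under a group

`Duo G V V'`: a group acting on two modules preserving a perfect pairing.
`Duo.orbit_complete`: both modules have the same number of orbits (Burnside's lemma).
-/

set_option autoImplicit false

namespace Cfsg.Agent.CamKan

open Module

theorem z2 : ∀ a : ZMod 2, a = 0 ∨ a = 1 := by decide

theorem z2_ne : ∀ a : ZMod 2, a ≠ 0 → a = 1 := by decide

theorem z2_ne_one : ∀ a : ZMod 2, a ≠ 1 → a = 0 := by decide

theorem z2_ext : ∀ a b : ZMod 2, (a = 0 ↔ b = 0) → a = b := by decide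

section Mod

variable {V : Type*} [AddCommGroup V] [Module (ZMod 2) V]

theorem vadd_self (v : V) : v + v = 0 := ZModModule.add_self v

theorem add_eq_zero' {v w : V} : v + w = 0 ↔ v = w := by
  rw [add_eq_zero_iff_eq_neg, ZModModule.neg_eq_self]

theorem mem_span1 {x v : V} : v ∈ Submodule.span (ZMod 2) {x} ↔ v = 0 ∨ v = x := by
  rw [Submodule.mem_span_singleton]
  constructor
  · rintro ⟨c, rfl⟩
    rcases z2 c with h | h <;> simp [h]
  · rintro (rfl | rfl)
    · exact ⟨0, by simp⟩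
    · exact ⟨1, by simp⟩

theorem exists_dual_one (W : Submodule (ZMod 2) V) {v : V} (hv : v ∉ W) :
    ∃ φ : Dual (ZMod 2) V, (∀ w ∈ W, φ w = 0) ∧ φ v = 1 := by
  obtain ⟨φ, h1, h2⟩ := W.exists_dual_map_eq_bot_of_notMem hv inferInstance
  refine ⟨φ, fun w hw => ?_, z2_ne _ h1⟩
  have : φ w ∈ W.map φ := Submodule.mem_map_of_mem hw
  rwa [h2, Submodule.mem_bot] at this

theorem exists_eq_one {φ : Dual (ZMod 2) V} (h : φ ≠ 0) : ∃ v, φ v = 1 := by
  by_contra hc; push Not at hc
  exact h (LinearMap.ext fun v => z2_ne_one _ (hc v))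

variable [Finite V]

instance finite_dual : Finite (Dual (ZMod 2) V) :=
  Finite.of_injective (fun φ => (φ : V → ZMod 2)) DFunLike.coe_injective

instance finite_quot (W : Submodule (ZMod 2) V) : Finite (V ⧸ W) :=
  Finite.of_surjective _ W.mkQ_surjective

theorem card_pow : Nat.card V = 2 ^ finrank (ZMod 2) V := by
  rw [Module.natCard_eq_pow_finrank (K := ZMod 2), Nat.card_zmod]

theorem ncard_sub (W : Submodule (ZMod 2) V) : (W : Set V).ncard = 2 ^ finrank (ZMod 2) W := by
  rw [← Nat.card_coe_set_eq, ← card_pow]; rfl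

theorem ncard_diff_zero (W : Submodule (ZMod 2) V) :
    ((W : Set V) \ {0}).ncard = 2 ^ finrank (ZMod 2) W - 1 := by
  rw [Set.ncard_diff_singleton_of_mem W.zero_mem, ncard_sub]

theorem finrank_ker_dual {φ : Dual (ZMod 2) V} (h : φ ≠ 0) :
    finrank (ZMod 2) (LinearMap.ker φ) + 1 = finrank (ZMod 2) V :=
  Module.Dual.finrank_ker_add_one_of_ne_zero h

theorem ncard_one {φ : Dual (ZMod 2) V} (h : φ ≠ 0) :
    {v | φ v = 1}.ncard = 2 ^ (finrank (ZMod 2) V - 1) := by
  have he : {v | φ v = 1} = ((LinearMap.ker φ : Set V))ᶜ := by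
    ext v
    rcases z2 (φ v) with hv | hv <;> simp [hv]
  have h1 := finrank_ker_dual h
  have h2 := Set.ncard_add_ncard_compl (LinearMap.ker φ : Set V)
  rw [ncard_sub, card_pow] at h2
  rw [he, ← h1] at *
  simp only [Nat.add_sub_cancel, pow_succ] at *
  omega

end Mod

section Orb

variable {G : Type*} [Group G] {V : Type*} [AddCommGroup V] [Module (ZMod 2) V]
  (ρ : G →* (V ≃ₗ[ZMod 2] V))

/-- The stabiliser of a vector. -/
def stab (v : V) : Subgroup G where
  carrier := {g | ρ g v = v}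
  mul_mem' {a b} (ha : ρ a v = v) (hb : ρ b v = v) := show ρ (a * b) v = v by
    rw [map_mul, LinearEquiv.mul_apply, hb, ha]
  one_mem' := show ρ 1 v = v by simp
  inv_mem' {a} (ha : ρ a v = v) := show ρ a⁻¹ v = v by
    conv_lhs => rw [← ha, ← LinearEquiv.mul_apply, ← map_mul]
    simp

@[simp] theorem mem_stab {g : G} {v : V} : g ∈ stab ρ v ↔ ρ g v = v := Iff.rfl

theorem inv_apply' (g : G) (v : V) : ρ g⁻¹ (ρ g v) = v := by
  rw [← LinearEquiv.mul_apply, ← map_mul]; simp

theorem apply_inv' (g : G) (v : V) : ρ g (ρ g⁻¹ v) = v := by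
  rw [← LinearEquiv.mul_apply, ← map_mul]; simp

theorem mul_apply' (g h : G) (v : V) : ρ (g * h) v = ρ g (ρ h v) := by
  rw [map_mul, LinearEquiv.mul_apply]

theorem stab_conj {g h : G} {v : V} : g * h * g⁻¹ ∈ stab ρ (ρ g v) ↔ h ∈ stab ρ v := by
  simp only [mem_stab, mul_apply', inv_apply']
  exact (ρ g).injective.eq_iff

/-- The orbit of `v` under a subgroup. -/
def orb (S : Subgroup G) (v : V) : Set V := {w | ∃ g ∈ S, ρ g v = w}

variable {ρ}

theorem self_mem_orb (S : Subgroup G) (v : V) : v ∈ orb ρ S v := ⟨1, S.one_mem, by simp⟩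

theorem orb_eq_of_mem {S : Subgroup G} {v w : V} (h : w ∈ orb ρ S v) : orb ρ S w = orb ρ S v := by
  obtain ⟨g, hg, rfl⟩ := h
  ext u
  constructor
  · rintro ⟨k, hk, rfl⟩
    exact ⟨k * g, S.mul_mem hk hg, mul_apply' ρ k g v⟩
  · rintro ⟨k, hk, rfl⟩
    exact ⟨k * g⁻¹, S.mul_mem hk (S.inv_mem hg), by rw [mul_apply', inv_apply']⟩

theorem orb_mono {S T : Subgroup G} (h : S ≤ T) (v : V) : orb ρ S v ⊆ orb ρ T v :=
  fun _ ⟨g, hg, e⟩ => ⟨g, h hg, e⟩

theorem orb_conj (g : G) (v w : V) :
    orb ρ (stab ρ (ρ g v)) (ρ g w) = ρ g '' orb ρ (stab ρ v) w := by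
  ext u
  constructor
  · rintro ⟨k, hk, rfl⟩
    refine ⟨ρ g⁻¹ (ρ k (ρ g w)), ⟨g⁻¹ * k * g, ?_, ?_⟩, apply_inv' ρ g _⟩
    · rw [mem_stab, mul_apply', mul_apply', (mem_stab ρ).1 hk, inv_apply']
    · rw [mul_apply', mul_apply']
  · rintro ⟨_, ⟨h, hh, rfl⟩, rfl⟩
    exact ⟨g * h * g⁻¹, (stab_conj ρ).2 hh, by rw [mul_apply', mul_apply', inv_apply']⟩

variable [Finite V]

theorem orb_card (S : Subgroup G) (v : V) :
    (orb ρ S v).ncard * Nat.card ↥(S ⊓ stab ρ v) = Nat.card S := by
  letI : MulAction S V :=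
    { smul := fun g w => ρ g w
      one_smul := fun w => show ρ ((1 : S) : G) w = w by simp
      mul_smul := fun g h w => mul_apply' ρ (g : G) (h : G) w }
  have ho : MulAction.orbit S v = orb ρ S v := by
    ext w
    constructor
    · rintro ⟨g, rfl⟩; exact ⟨g, g.2, rfl⟩
    · rintro ⟨g, hg, rfl⟩; exact ⟨⟨g, hg⟩, rfl⟩
  have hs : Nat.card (MulAction.stabilizer S v) = Nat.card ↥(S ⊓ stab ρ v) :=
    Nat.card_congr
      { toFun := fun g => ⟨g.1.1, g.1.2, g.2⟩
        invFun := fun g => ⟨⟨g.1, g.2.1⟩, g.2.2⟩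
        left_inv := fun _ => rfl
        right_inv := fun _ => rfl }
  rw [← ho, ← MulAction.index_stabilizer, ← hs]
  exact Subgroup.index_mul_card _

/-- Orbits of coprime sizes: the stabiliser of a point of one is transitive on the other. -/
theorem orb_coprime [Finite G] (S : Subgroup G) (u v : V)
    (h : Nat.Coprime (orb ρ S v).ncard (orb ρ S u).ncard) :
    orb ρ (S ⊓ stab ρ u) v = orb ρ S v := by
  have hsub : orb ρ (S ⊓ stab ρ u) v ⊆ orb ρ S v := orb_mono inf_le_left v
  refine Set.eq_of_subset_of_ncard_le hsub ?_ (Set.toFinite _)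
  have h1 := orb_card (ρ := ρ) S v
  have h2 := orb_card (ρ := ρ) S u
  have h3 := orb_card (ρ := ρ) (S ⊓ stab ρ u) v
  obtain ⟨k, hk⟩ : Nat.card ↥(S ⊓ stab ρ u ⊓ stab ρ v) ∣ Nat.card ↥(S ⊓ stab ρ v) :=
    Subgroup.card_dvd_of_le (inf_le_inf_right _ inf_le_left)
  have hpos : 0 < Nat.card ↥(S ⊓ stab ρ u ⊓ stab ρ v) := Nat.card_pos
  have he : (orb ρ S u).ncard * (orb ρ (S ⊓ stab ρ u) v).ncard = (orb ρ S v).ncard * k := by
    apply Nat.eq_of_mul_eq_mul_right hpos
    rw [mul_assoc, h3, h2, mul_assoc, mul_comm k, ← hk, h1]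
  have hd : (orb ρ S v).ncard ∣ (orb ρ (S ⊓ stab ρ u) v).ncard :=
    h.dvd_of_dvd_mul_left ⟨k, he⟩
  exact Nat.le_of_dvd ((Set.ncard_pos (Set.toFinite _)).2 ⟨v, self_mem_orb _ _⟩) hd

/-- A Sylow 2-subgroup is transitive on an orbit of 2-power size. -/
theorem exists_two_trans [Finite G] (S : Subgroup G) (v : V) {k : ℕ}
    (h : (orb ρ S v).ncard = 2 ^ k) :
    ∃ T ≤ S, IsPGroup 2 T ∧ orb ρ T v = orb ρ S v := by
  haveI : Fact (Nat.Prime 2) := ⟨Nat.prime_two⟩
  obtain ⟨P⟩ : Nonempty (Sylow 2 S) := inferInstance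
  let T : Subgroup G := (P : Subgroup S).map S.subtype
  have hTS : T ≤ S := Subgroup.map_subtype_le _
  have hcT : Nat.card T = 2 ^ (Nat.card S).factorization 2 := by
    rw [Subgroup.card_map_of_injective S.subtype_injective, Sylow.card_eq_multiplicity]
  have hp : IsPGroup 2 T := P.2.map _
  refine ⟨T, hTS, hp, ?_⟩
  refine Set.eq_of_subset_of_ncard_le (orb_mono hTS v) ?_ (Set.toFinite _)
  have h1 := orb_card (ρ := ρ) T v
  have h2 := orb_card (ρ := ρ) S v
  have hd : Nat.card ↥(T ⊓ stab ρ v) ∣ Nat.card ↥(S ⊓ stab ρ v) :=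
    Subgroup.card_dvd_of_le (inf_le_inf_right _ hTS)
  have hd2 : 2 ^ k * Nat.card ↥(T ⊓ stab ρ v) ∣ Nat.card S := by
    rw [← h2, h]; exact mul_dvd_mul_left _ hd
  obtain ⟨j, hj⟩ : ∃ j, Nat.card ↥(T ⊓ stab ρ v) = 2 ^ j := by
    have : Nat.card ↥(T ⊓ stab ρ v) ∣ Nat.card T := Subgroup.card_dvd_of_le inf_le_left
    rw [hcT] at this
    obtain ⟨j, -, hj⟩ := (Nat.dvd_prime_pow Nat.prime_two).1 this
    exact ⟨j, hj⟩
  rw [hj, ← pow_add, Nat.Prime.pow_dvd_iff_le_factorization Nat.prime_two Nat.card_pos.ne'] at hd2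
  rw [h]
  have : 2 ^ (k + j) ≤ (orb ρ T v).ncard * 2 ^ j := by
    rw [hj, hcT] at h1
    rw [h1]
    exact Nat.pow_le_pow_right (by norm_num) hd2
  rw [pow_add] at this
  exact Nat.le_of_mul_le_mul_right this (by positivity)

omit [Finite V] in
/-- A 2-group fixes a point of every invariant set of odd size. -/
theorem exists_fixed [Finite V] {T : Subgroup G} (hT : IsPGroup 2 T) {A : Set V}
    (hA : ∀ g ∈ T, ∀ a ∈ A, ρ g a ∈ A) (hodd : Odd A.ncard) :
    ∃ a ∈ A, ∀ g ∈ T, ρ g a = a := by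
  haveI : Fact (Nat.Prime 2) := ⟨Nat.prime_two⟩
  letI : MulAction T A :=
    { smul := fun g a => ⟨ρ g a, hA g g.2 a a.2⟩
      one_smul := fun a => Subtype.ext (show ρ ((1 : T) : G) (a : V) = a by simp)
      mul_smul := fun g h a => Subtype.ext (mul_apply' ρ (g : G) (h : G) a) }
  have hnd : ¬ 2 ∣ Nat.card A := by
    rw [Nat.card_coe_set_eq]; exact hodd.not_two_dvd_nat
  obtain ⟨a, ha⟩ := hT.nonempty_fixed_point_of_prime_not_dvd_card A hnd
  exact ⟨a, a.2, fun g hg => congrArg Subtype.val (ha ⟨g, hg⟩)⟩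

end Orb

/-- A group acting on two `𝔽₂`-modules in duality. -/
structure Duo (G : Type*) [Group G] (V V' : Type*) [AddCommGroup V] [Module (ZMod 2) V]
    [AddCommGroup V'] [Module (ZMod 2) V'] where
  ρ : G →* (V ≃ₗ[ZMod 2] V)
  σ : G →* (V' ≃ₗ[ZMod 2] V')
  b : V →ₗ[ZMod 2] V' →ₗ[ZMod 2] ZMod 2
  b_smul : ∀ g v f, b (ρ g v) (σ g f) = b v f
  sepL : ∀ v, (∀ f, b v f = 0) → v = 0
  sepR : ∀ f, (∀ v, b v f = 0) → f = 0

namespace Duo

variable {G : Type*} [Group G] {V V' : Type*} [AddCommGroup V] [Module (ZMod 2) V]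
  [AddCommGroup V'] [Module (ZMod 2) V'] (D : Duo G V V')

/-- Exchange the two modules. -/
def swap : Duo G V' V where
  ρ := D.σ
  σ := D.ρ
  b := D.b.flip
  b_smul g f v := D.b_smul g v f
  sepL := D.sepR
  sepR := D.sepL

@[simp] theorem swap_ρ : D.swap.ρ = D.σ := rfl
@[simp] theorem swap_σ : D.swap.σ = D.ρ := rfl
@[simp] theorem swap_b (f : V') (v : V) : D.swap.b f v = D.b v f := rfl

theorem b_inv_left (g : G) (v : V) (f : V') : D.b (D.ρ g v) f = D.b v (D.σ g⁻¹ f) := by
  rw [← D.b_smul g v (D.σ g⁻¹ f), apply_inv']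

theorem b_stab {g : G} {f : V'} (hg : g ∈ stab D.σ f) (v : V) : D.b (D.ρ g v) f = D.b v f := by
  conv_lhs => rw [← (mem_stab _).1 hg]
  exact D.b_smul g v f

theorem b_stab_left {g : G} {v : V} (hg : g ∈ stab D.ρ v) (f : V') :
    D.b v (D.σ g f) = D.b v f := by
  conv_lhs => rw [← (mem_stab _).1 hg]
  exact D.b_smul g v f

theorem flip_injective : Function.Injective (D.b.flip : V' →ₗ[ZMod 2] Dual (ZMod 2) V) := by
  rw [injective_iff_map_eq_zero]
  exact fun f hf => D.sepR f fun v => LinearMap.congr_fun hf v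

theorem flip_ne_zero {f : V'} (hf : f ≠ 0) : D.b.flip f ≠ 0 :=
  fun h => hf (D.flip_injective (by rw [h, map_zero]))

theorem exists_one {f : V'} (hf : f ≠ 0) : ∃ v, D.b v f = 1 := exists_eq_one (D.flip_ne_zero hf)

variable [Finite V]

theorem finite_right (D : Duo G V V') : Finite V' := Finite.of_injective _ D.flip_injective

theorem finrank_eq (D : Duo G V V') : finrank (ZMod 2) V' = finrank (ZMod 2) V := by
  haveI := D.finite_right
  refine le_antisymm ?_ ?_
  · exact (LinearMap.finrank_le_finrank_of_injective D.flip_injective).trans_eq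
      Subspace.dual_finrank_eq
  · exact (LinearMap.finrank_le_finrank_of_injective D.swap.flip_injective).trans_eq
      Subspace.dual_finrank_eq

theorem flip_surjective : Function.Surjective (D.b.flip : V' →ₗ[ZMod 2] Dual (ZMod 2) V) := by
  haveI := D.finite_right
  exact (LinearMap.injective_iff_surjective_of_finrank_eq_finrank
    (D.finrank_eq.trans Subspace.dual_finrank_eq.symm)).1 D.flip_injective

theorem exists_vec (φ : Dual (ZMod 2) V) : ∃ f, ∀ v, D.b v f = φ v := by
  obtain ⟨f, rfl⟩ := D.flip_surjective φ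
  exact ⟨f, fun _ => rfl⟩

/-- Burnside: an element fixes equally many vectors in both modules. -/
theorem card_fixed (g : G) :
    Nat.card {f : V' // D.σ g f = f} = Nat.card {v : V // D.ρ g v = v} := by
  haveI := D.finite_right
  set L : V →ₗ[ZMod 2] V := (D.ρ g).toLinearMap - LinearMap.id with hL
  have h1 : Nat.card {v : V // D.ρ g v = v} = 2 ^ finrank (ZMod 2) (LinearMap.ker L) := by
    rw [← card_pow]
    exact Nat.card_congr (Equiv.subtypeEquivRight fun v => by simp [L, sub_eq_zero])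
  have h2 : Nat.card {f : V' // D.σ g f = f} =
      2 ^ finrank (ZMod 2) (LinearMap.range L).dualAnnihilator := by
    rw [← card_pow]
    refine Nat.card_congr ((Equiv.ofBijective _ ⟨D.flip_injective, D.flip_surjective⟩).subtypeEquiv
      fun f => ?_)
    change D.σ g f = f ↔ D.b.flip f ∈ (LinearMap.range L).dualAnnihilator
    simp only [Submodule.mem_dualAnnihilator, LinearMap.mem_range, forall_exists_index,
      forall_apply_eq_imp_iff]
    constructor
    · intro h v
      simp [L, D.b_stab h]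
    · intro h
      refine D.flip_injective (LinearMap.ext fun v => ?_)
      have h' := h (D.ρ g⁻¹ v)
      simp only [L, LinearMap.sub_apply, LinearEquiv.coe_coe, LinearMap.id_apply, map_sub,
        LinearMap.flip_apply, sub_eq_zero, apply_inv'] at h'
      simp only [LinearMap.flip_apply, h']
      conv_lhs => rw [← apply_inv' D.ρ g v, D.b_smul]
  rw [h1, h2]
  congr 1
  have h3 := L.finrank_range_add_finrank_ker
  have h4 := Subspace.finrank_add_finrank_dualAnnihilator_eq (LinearMap.range L)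
  omega

/-- If invariant class functions with the same values separate the orbits on `V`,
they separate those on `V'`. -/
theorem orbit_complete [Finite G] (S : Subgroup G) {α : Type} [Finite α]
    (cls : V → α) (cls' : V' → α)
    (hinv : ∀ g ∈ S, ∀ v, cls (D.ρ g v) = cls v) (hinv' : ∀ g ∈ S, ∀ f, cls' (D.σ g f) = cls' f)
    (hsurj : Function.Surjective cls) (hsurj' : Function.Surjective cls')
    (hcomp : ∀ v w, cls v = cls w → ∃ g ∈ S, D.ρ g v = w) :
    ∀ f f', cls' f = cls' f' → ∃ g ∈ S, D.σ g f = f' := by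
  classical
  haveI := D.finite_right
  letI : MulAction S V :=
    { smul := fun g w => D.ρ g w
      one_smul := fun w => show D.ρ ((1 : S) : G) w = w by simp
      mul_smul := fun g h w => mul_apply' D.ρ (g : G) (h : G) w }
  letI : MulAction S V' :=
    { smul := fun g w => D.σ g w
      one_smul := fun w => show D.σ ((1 : S) : G) w = w by simp
      mul_smul := fun g h w => mul_apply' D.σ (g : G) (h : G) w }
  letI := Fintype.ofFinite V
  letI := Fintype.ofFinite V'
  letI := Fintype.ofFinite S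
  letI := Fintype.ofFinite (MulAction.orbitRel.Quotient S V)
  letI := Fintype.ofFinite (MulAction.orbitRel.Quotient S V')
  have hB := MulAction.sum_card_fixedBy_eq_card_orbits_mul_card_group S V
  have hB' := MulAction.sum_card_fixedBy_eq_card_orbits_mul_card_group S V'
  have hfix : ∀ g : S, Fintype.card (MulAction.fixedBy V' g) =
      Fintype.card (MulAction.fixedBy V g) := by
    intro g
    rw [← Nat.card_eq_fintype_card, ← Nat.card_eq_fintype_card]
    exact D.card_fixed g
  rw [Finset.sum_congr rfl fun g _ => hfix g, hB] at hB'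
  have hcard : Nat.card (MulAction.orbitRel.Quotient S V') =
      Nat.card (MulAction.orbitRel.Quotient S V) := by
    rw [Nat.card_eq_fintype_card, Nat.card_eq_fintype_card]
    exact (Nat.eq_of_mul_eq_mul_right Fintype.card_pos hB').symm
  let q : MulAction.orbitRel.Quotient S V → α := Quotient.lift cls (by
    rintro v w ⟨g, rfl⟩; exact hinv g g.2 w)
  let q' : MulAction.orbitRel.Quotient S V' → α := Quotient.lift cls' (by
    rintro v w ⟨g, rfl⟩; exact hinv' g g.2 w)
  have hq : Function.Bijective q := by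
    constructor
    · rintro ⟨v⟩ ⟨w⟩ h
      obtain ⟨g, hg, hgv⟩ := hcomp v w h
      exact (Quotient.sound (s := MulAction.orbitRel S V) ⟨⟨g, hg⟩, hgv⟩).symm
    · intro a; obtain ⟨v, rfl⟩ := hsurj a; exact ⟨Quotient.mk _ v, rfl⟩
  have hq' : Function.Surjective q' := fun a => by
    obtain ⟨f, rfl⟩ := hsurj' a; exact ⟨Quotient.mk _ f, rfl⟩
  have hc : Nat.card (MulAction.orbitRel.Quotient S V') = Nat.card α :=
    hcard.trans (Nat.card_eq_of_bijective q hq)
  have hq'i : Function.Injective q' :=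
    ((Nat.bijective_iff_surjective_and_card q').2 ⟨hq', hc⟩).1
  intro f f' h
  obtain ⟨g, hg⟩ := Quotient.exact (s := MulAction.orbitRel S V')
    (hq'i (a₁ := Quotient.mk _ f') (a₂ := Quotient.mk _ f) h.symm)
  exact ⟨g, g.2, hg⟩

/-- A group transitive on non-zero vectors is transitive on non-zero functionals. -/
theorem trans_dual [Finite G] [Nontrivial V] (S : Subgroup G)
    (h : ∀ v w : V, v ≠ 0 → w ≠ 0 → ∃ g ∈ S, D.ρ g v = w) :
    ∀ f f' : V', f ≠ 0 → f' ≠ 0 → ∃ g ∈ S, D.σ g f = f' := by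
  classical
  haveI := D.finite_right
  intro f f' hf hf'
  refine D.orbit_complete S (fun v => decide (v = 0)) (fun f => decide (f = 0))
    (fun g _ v => by simp) (fun g _ v => by simp) ?_ ?_ ?_ f f' (by simp [hf, hf'])
  · intro a
    obtain ⟨v, hv⟩ := exists_ne (0 : V)
    cases a
    · exact ⟨v, by simp [hv]⟩
    · exact ⟨0, by simp⟩
  · intro a
    cases a
    · exact ⟨f, by simp [hf]⟩
    · exact ⟨0, by simp⟩
  · intro v w hvw
    by_cases hv : v = 0
    · exact ⟨1, S.one_mem, by simp_all⟩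
    · exact h v w hv (by simp_all)

section Quo

variable (W : Submodule (ZMod 2) V)

/-- The vectors of `V'` orthogonal to `W`. -/
def ann : Submodule (ZMod 2) V' where
  carrier := {f | ∀ w ∈ W, D.b w f = 0}
  add_mem' {a c} ha hc w hw := by simp [ha w hw, hc w hw]
  zero_mem' w _ := by simp
  smul_mem' r a ha w hw := by simp [ha w hw]

variable {W}

@[simp] theorem mem_ann {f : V'} : f ∈ D.ann W ↔ ∀ w ∈ W, D.b w f = 0 := Iff.rfl

variable {S : Subgroup G} (hW : ∀ g ∈ S, ∀ w ∈ W, D.ρ g w ∈ W)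
include hW

theorem map_eq (g : S) : W.map (D.ρ g).toLinearMap = W := by
  refine le_antisymm ?_ fun w hw => ?_
  · rintro _ ⟨w, hw, rfl⟩; exact hW g g.2 w hw
  · exact ⟨D.ρ (g : G)⁻¹ w, hW _ (S.inv_mem g.2) w hw, apply_inv' D.ρ (g : G) w⟩

theorem map_ann_eq (g : S) : (D.ann W).map (D.σ g).toLinearMap = D.ann W := by
  have key : ∀ g : S, ∀ f ∈ D.ann W, D.σ g f ∈ D.ann W := by
    intro g f hf w hw
    conv_lhs => rw [← apply_inv' D.ρ (g : G) w, D.b_smul]
    exact hf _ (hW _ (S.inv_mem g.2) w hw)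
  refine le_antisymm ?_ fun f hf => ?_
  · rintro _ ⟨w, hw, rfl⟩; exact key g w hw
  · exact ⟨D.σ (g : G)⁻¹ f, key g⁻¹ f hf, apply_inv' D.σ (g : G) f⟩

/-- The action of a subgroup on a quotient, in duality with the annihilator. -/
def quo : Duo S (V ⧸ W) (D.ann W) where
  ρ :=
    { toFun := fun g => Submodule.Quotient.equiv W W (D.ρ g) (D.map_eq hW g)
      map_one' := by
        ext x; induction x using Submodule.Quotient.induction_on
        simp [Submodule.Quotient.equiv]
      map_mul' := fun g h => by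
        ext x; induction x using Submodule.Quotient.induction_on
        simp [Submodule.Quotient.equiv] }
  σ :=
    { toFun := fun g => (D.σ g).ofSubmodules _ _ (D.map_ann_eq hW g)
      map_one' := by ext f; simp
      map_mul' := fun g h => by ext f; simp }
  b := W.liftQ (LinearMap.lcomp (ZMod 2) _ (D.ann W).subtype ∘ₗ D.b)
    (fun w hw => LinearMap.ext fun f => f.2 w hw)
  b_smul g v f := by
    induction v using Submodule.Quotient.induction_on with | H v => exact D.b_smul (g : G) v f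
  sepL v h := by
    induction v using Submodule.Quotient.induction_on with
    | H v =>
      rw [Submodule.Quotient.mk_eq_zero]
      by_contra hv
      obtain ⟨φ, h1, h2⟩ := exists_dual_one W hv
      obtain ⟨f, hf⟩ := D.exists_vec φ
      have hfW : f ∈ D.ann W := fun w hw => (hf w).trans (h1 w hw)
      have : D.b v f = 0 := h ⟨f, hfW⟩
      rw [hf, h2] at this
      exact one_ne_zero this
  sepR f h := Subtype.ext (D.sepR f fun v => h (Submodule.Quotient.mk v))

end Quo

end Duo

end Cfsg.Agent.CamKan
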