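import Cfsg.Agent.Lib.CamKan.Basic

/-!
# Alternating maps with minimal kernels do not exist

If `R x` is a square matrix over `𝔽₂`, linear in `x`, with `R x *ᵥ x = 0`, whose kernel is
`{0, x}`, then a cofactor column is `x k * g x` with `g` of small degree;
Chevalley–Warning gives `g` a non-zero root, a contradiction.
-/

set_option autoImplicit false

namespace Cfsg.Agent.CamKan

open Module MvPolynomial Matrix

variable {d : ℕ}

/-- The generic matrix. -/
noncomputable def genMat (a : Fin d → Fin d → Fin d → ZMod 2) :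
    Matrix (Fin d) (Fin d) (MvPolynomial (Fin d) (ZMod 2)) :=
  fun i j => ∑ k, C (a k i j) * X k

/-- Its value at `x`. -/
def matAt (a : Fin d → Fin d → Fin d → ZMod 2) (x : Fin d → ZMod 2) :
    Matrix (Fin d) (Fin d) (ZMod 2) :=
  fun i j => ∑ k, a k i j * x k

theorem genMat_homogeneous (a : Fin d → Fin d → Fin d → ZMod 2) (i j : Fin d) :
    (genMat a i j).IsHomogeneous 1 :=
  IsHomogeneous.sum _ _ _ fun k _ => by
    simpa using (isHomogeneous_C (Fin d) (a k i j)).mul (isHomogeneous_X (ZMod 2) k)

theorem adj_homogeneous (a : Fin d → Fin d → Fin d → ZMod 2) (k i : Fin d) :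
    (adjugate (genMat a) k i).IsHomogeneous (d - 1) := by
  rw [adjugate_apply, det_apply]
  refine IsHomogeneous.sum _ _ _ fun s _ => ?_
  have hp : (∏ r, (genMat a).updateRow i (Pi.single k 1) (s r) r).IsHomogeneous
      (∑ r, if s r = i then 0 else 1) := by
    refine IsHomogeneous.prod _ _ _ fun r _ => ?_
    rw [updateRow_apply]
    split
    · rw [Pi.single_apply]
      split
      · exact isHomogeneous_one _ _
      · exact isHomogeneous_zero _ _ _
    · exact genMat_homogeneous a _ _
  have hs : (∑ r, if s r = i then 0 else 1) = d - 1 := by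
    have h1 : (∑ r, ((if s r = i then 0 else 1) + if s r = i then 1 else 0)) = d := by
      simp [Finset.sum_congr rfl fun r (_ : r ∈ Finset.univ) =>
        show ((if s r = i then 0 else 1) + if s r = i then 1 else 0) = 1 by split <;> rfl]
    rw [Finset.sum_add_distrib] at h1
    have h2 : (∑ r, if s r = i then 1 else 0) = 1 := by
      rw [Finset.sum_eq_single (s.symm i)]
      · simp
      · intro r _ hr
        rw [if_neg]
        rintro rfl; simp at hr
      · simp
    omega
  rw [hs] at hp
  rcases Int.units_eq_one_or (Equiv.Perm.sign s) with h | h <;> rw [h]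
  · simpa using hp
  · simpa using hp.neg

theorem genMat_mulVec (a : Fin d → Fin d → Fin d → ZMod 2)
    (hdiag : ∀ i j, a j i j = 0) (hanti : ∀ i j k, a k i j = a j i k) :
    genMat a *ᵥ X = 0 := by
  ext1 i
  simp only [mulVec, dotProduct, genMat, Finset.sum_mul, Pi.zero_apply]
  rw [← Finset.sum_product']
  refine Finset.sum_involution (fun p _ => (p.2, p.1)) ?_ ?_ (fun p _ => by simp) (fun p _ => rfl)
  · rintro ⟨j, k⟩ -
    rw [hanti i j k, mul_right_comm _ (X k) (X j)]
    exact CharTwo.add_self_eq_zero _
  · rintro ⟨j, k⟩ - h heq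
    simp only [Prod.mk.injEq] at heq
    exact h (by simp [heq.1, hdiag])

theorem adj_prop (a : Fin d → Fin d → Fin d → ZMod 2) (h : genMat a *ᵥ X = 0) (i j k : Fin d) :
    adjugate (genMat a) k i * X j = adjugate (genMat a) j i * X k := by
  set R' := (genMat a).updateRow i (Pi.single k 1) with hR'
  have h1 : R' *ᵥ X = Pi.single i (X k) := by
    ext1 r
    rw [mulVec, hR']
    by_cases hr : r = i
    · subst hr; simp [updateRow_self, dotProduct, Pi.single_apply]
    · rw [updateRow_ne hr, Pi.single_eq_of_ne hr]
      exact congrFun h r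
  have h2 := congrArg (fun v => (adjugate R' *ᵥ v) j) h1
  simp only [mulVec_mulVec, adjugate_mul, smul_mulVec, one_mulVec, Pi.smul_apply,
    mulVec_single, Pi.smul_apply, smul_eq_mul] at h2
  have h3 : adjugate R' j i = adjugate (genMat a) j i := by
    rw [adjugate_apply, adjugate_apply, hR', updateRow_idem]
  have h4 : R'.det = adjugate (genMat a) k i := by rw [adjugate_apply]
  rw [h4] at h2
  simp only [op_smul_eq_mul, col_apply] at h2
  rw [h3] at h2
  exact h2

/-- A family proportional to the variables has a common quotient. -/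
theorem exists_quot (hd : 2 ≤ d) (q : Fin d → MvPolynomial (Fin d) (ZMod 2))
    (h : ∀ j k, q k * X j = q j * X k) : ∃ g, ∀ k, q k = X k * g := by
  have hdiv : ∀ k, X k ∣ q k := by
    intro k
    obtain ⟨j, hj⟩ : ∃ j : Fin d, j ≠ k := by
      by_cases hk : (k : ℕ) = 0
      · exact ⟨⟨1, by omega⟩, fun e => by simp [← e] at hk⟩
      · exact ⟨⟨0, by omega⟩, fun e => by simp [← e] at hk⟩
    rcases (X_prime (R := ZMod 2) (i := k)).dvd_or_dvd
      ⟨q j, by rw [h j k, mul_comm]⟩ with h1 | h1
    · exact h1
    · have := congrArg (eval fun t => if t = k then (0 : ZMod 2) else 1) h1.choose_spec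
      simp [hj] at this
  choose g hg using hdiv
  refine ⟨g ⟨0, by omega⟩, fun k => ?_⟩
  have := h ⟨0, by omega⟩ k
  rw [hg k, hg ⟨0, by omega⟩, mul_right_comm, mul_comm (X k * _) (g k)] at this
  rw [hg k]
  have hX : ∀ t : Fin d, (X t : MvPolynomial (Fin d) (ZMod 2)) ≠ 0 := fun t => X_ne_zero t
  congr 1
  refine mul_left_cancel₀ (mul_ne_zero (hX k) (hX ⟨0, by omega⟩)) ?_
  linear_combination this

/-- A homogeneous-type polynomial of small degree has a non-zero root. -/
theorem exists_root (g : MvPolynomial (Fin d) (ZMod 2)) (h0 : eval 0 g = 0)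
    (hdeg : g.totalDegree < d) : ∃ x : Fin d → ZMod 2, x ≠ 0 ∧ eval x g = 0 := by
  classical
  by_contra hc; push Not at hc
  have h1 := char_dvd_card_solutions 2 (f := g) (by simpa using hdeg)
  have h2 : Fintype.card { x : Fin d → ZMod 2 // eval x g = 0 } = 1 :=
    Fintype.card_eq_one_iff.2 ⟨⟨0, h0⟩, fun y => Subtype.ext <| by
      by_contra hy; exact hc y.1 hy y.2⟩
  rw [h2] at h1
  norm_num at h1

theorem map_genMat (a : Fin d → Fin d → Fin d → ZMod 2) (x : Fin d → ZMod 2) :
    (genMat a).map (eval x) = matAt a x := by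
  ext i j; simp [genMat, matAt]

theorem eval_adj (a : Fin d → Fin d → Fin d → ZMod 2) (x : Fin d → ZMod 2) (k i : Fin d) :
    eval x (adjugate (genMat a) k i) = adjugate (matAt a x) k i := by
  have := congrFun (congrFun (RingHom.map_adjugate (eval x) (genMat a)) k) i
  simpa [RingHom.mapMatrix_apply, map_genMat] using this

/-- At a vector where the kernel is `{0, x}`, a suitable cofactor is non-zero. -/
theorem adj_ne_zero (a : Fin d → Fin d → Fin d → ZMod 2) (x : Fin d → ZMod 2)
    (hker : ∀ v, matAt a x *ᵥ v = 0 → v = 0 ∨ v = x) (i k : Fin d) (hk : x k ≠ 0)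
    (hrow : ∀ v, (∀ r, r ≠ i → (matAt a x *ᵥ v) r = 0) → (matAt a x *ᵥ v) i = 0) :
    adjugate (matAt a x) k i ≠ 0 := by
  rw [adjugate_apply]
  intro hdet
  obtain ⟨v, hv0, hv⟩ := exists_mulVec_eq_zero_iff.2 hdet
  have hoth : ∀ r, r ≠ i → (matAt a x *ᵥ v) r = 0 := fun r hr => by
    have := congrFun hv r
    simpa [mulVec, updateRow_ne hr] using this
  have hvk : v k = 0 := by
    have := congrFun hv i
    simpa [mulVec, updateRow_self, dotProduct, Pi.single_apply] using this
  have hall : matAt a x *ᵥ v = 0 := funext fun r => by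
    by_cases hr : r = i
    · subst hr; exact hrow v hoth
    · exact hoth r hr
  rcases hker v hall with h | h
  · exact hv0 h
  · exact hk (h ▸ hvk)

/-- Rectangular case: no alternating map `D × D → D'` with `dim D' = dim D - 1` and
kernels `{0, x}`. -/
theorem no_rect {D D' : Type*} [AddCommGroup D] [Module (ZMod 2) D] [Finite D]
    [AddCommGroup D'] [Module (ZMod 2) D'] [Finite D'] (A : D →ₗ[ZMod 2] D →ₗ[ZMod 2] D')
    (hdim : finrank (ZMod 2) D' + 1 = finrank (ZMod 2) D) (h3 : 3 ≤ finrank (ZMod 2) D)
    (halt : ∀ x, A x x = 0) (hker : ∀ x, x ≠ 0 → ∀ y, A x y = 0 → y = 0 ∨ y = x) : False := by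
  set c := finrank (ZMod 2) D' with hc
  let bD := Module.finBasisOfFinrankEq (ZMod 2) D hdim.symm
  let bD' := Module.finBasisOfFinrankEq (ZMod 2) D' hc.symm
  let a : Fin (c + 1) → Fin (c + 1) → Fin (c + 1) → ZMod 2 := fun k i j =>
    (Fin.snoc (bD'.repr (A (bD k) (bD j))) 0 : Fin (c + 1) → ZMod 2) i
  have hlast : ∀ k j, a k (Fin.last c) j = 0 := fun k j => Fin.snoc_last _ _
  have hanti' : ∀ x y, A x y = A y x := fun x y => by
    have h := halt (x + y)
    simp only [map_add, LinearMap.add_apply, halt, zero_add, add_zero] at h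
    exact (add_eq_zero'.1 h).symm
  have hX := genMat_mulVec a
    (fun i j => by
      refine Fin.lastCases ?_ ?_ i
      · exact hlast _ _
      · intro i; simp [a, halt])
    (fun i j k => by simp only [a, hanti' (bD k) (bD j)])
  obtain ⟨g, hg⟩ := exists_quot (by omega) (fun k => adjugate (genMat a) k (Fin.last c))
    (fun j k => adj_prop a hX _ j k)
  have hh : ∀ k, (X k * g).IsHomogeneous (c + 1 - 1) := fun k => hg k ▸ adj_homogeneous a k _
  have hg0 : eval 0 g = 0 := by
    have := (hh (Fin.last c)).coeff_eq_zero (d := Finsupp.single (Fin.last c) 1) (by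
      rw [Finsupp.degree_single]; omega)
    rw [show Finsupp.single (Fin.last c) 1 = Finsupp.single (Fin.last c) 1 + 0 by simp,
      coeff_X_mul] at this
    rw [eval_zero]; exact this
  have hdeg : g.totalDegree < c + 1 := by
    by_cases hg' : g = 0
    · simp [hg']
    · have := (hh (Fin.last c)).totalDegree_le
      rw [totalDegree_mul_of_isDomain (X_ne_zero _) hg', totalDegree_X] at this
      omega
  obtain ⟨x, hx, hroot⟩ := exists_root g hg0 hdeg
  obtain ⟨k, hk⟩ := Function.ne_iff.1 hx
  refine adj_ne_zero a x (fun v hv => ?_) (Fin.last c) k hk (fun v _ => ?_) ?_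
  · set x' := bD.equivFun.symm x with hx'
    set v' := bD.equivFun.symm v with hv'
    have hA : A x' v' = 0 := by
      refine bD'.repr.injective (Finsupp.ext fun i => ?_)
      have := congrFun hv i.castSucc
      simp only [mulVec, dotProduct, matAt, a, Fin.snoc_castSucc, Finset.sum_mul,
        Pi.zero_apply] at this
      rw [map_zero, Finsupp.zero_apply, ← this, hx', hv', Basis.equivFun_symm_apply,
        Basis.equivFun_symm_apply]
      simp only [map_sum, map_smul, LinearMap.sum_apply, LinearMap.smul_apply, Finsupp.coe_finsetSum,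
        Finset.sum_apply, Finsupp.coe_smul, Pi.smul_apply, smul_eq_mul, Finset.mul_sum]
      refine Finset.sum_congr rfl fun j _ => Finset.sum_congr rfl fun l _ => ?_
      ring
    rcases hker x' (fun e => hx (bD.equivFun.symm.injective (e.trans (map_zero _).symm))) v' hA with h | h
    · left; exact bD.equivFun.symm.injective (h.trans (map_zero _).symm)
    · right; exact bD.equivFun.symm.injective h
  · simp [mulVec, dotProduct, matAt, hlast]
  · rw [← eval_adj, hg k, eval_mul, hroot, mul_zero]

/-- Symmetric case: no alternating trilinear form in dimension at least 4 with radicals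
`{0, x}`. -/
theorem no_sym {D : Type*} [AddCommGroup D] [Module (ZMod 2) D] [Finite D]
    (A : D →ₗ[ZMod 2] D →ₗ[ZMod 2] Dual (ZMod 2) D) (h4 : 4 ≤ finrank (ZMod 2) D)
    (halt : ∀ x, A x x = 0) (hsym : ∀ x y z, A x y z = A x z y)
    (hker : ∀ x, x ≠ 0 → ∀ y, A x y = 0 → y = 0 ∨ y = x) : False := by
  set d := finrank (ZMod 2) D with hd
  let bD := Module.finBasisOfFinrankEq (ZMod 2) D hd.symm
  let a : Fin d → Fin d → Fin d → ZMod 2 := fun k i j => A (bD k) (bD j) (bD i)
  have hanti' : ∀ x y, A x y = A y x := fun x y => by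
    have h := halt (x + y)
    simp only [map_add, LinearMap.add_apply, halt, zero_add, add_zero] at h
    exact (add_eq_zero'.1 h).symm
  have hX := genMat_mulVec a (fun i j => by simp [a, halt])
    (fun i j k => by simp only [a, hanti' (bD k) (bD j)])
  have hT : (genMat a)ᵀ = genMat a := by
    refine Matrix.ext fun r t => ?_; simp only [transpose_apply, genMat, a]
    exact Finset.sum_congr rfl fun k _ => by rw [hsym]
  have hadjT : ∀ i k, adjugate (genMat a) k i = adjugate (genMat a) i k := fun i k => by
    conv_lhs => rw [← hT, ← adjugate_transpose, transpose_apply]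
  choose g hg using fun i => exists_quot (show 2 ≤ d by omega)
    (fun k => adjugate (genMat a) k i) (fun j k => adj_prop a hX i j k)
  obtain ⟨G0, hG0⟩ := exists_quot (show 2 ≤ d by omega) g (fun j k => by
    rw [mul_comm, ← hg k j, hadjT, hg j k, mul_comm])
  have hform : ∀ i k, adjugate (genMat a) k i = X k * (X i * G0) := fun i k => by
    rw [hg i k, hG0 i]
  have i₀ : Fin d := ⟨0, by omega⟩
  have hh : (X i₀ * (X i₀ * G0)).IsHomogeneous (d - 1) := hform i₀ i₀ ▸ adj_homogeneous a _ _
  have hg0 : eval 0 G0 = 0 := by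
    have := hh.coeff_eq_zero (d := Finsupp.single i₀ 1 + (Finsupp.single i₀ 1 + 0)) (by
      simp [Finsupp.degree_single]; omega)
    rw [coeff_X_mul, coeff_X_mul] at this
    rw [eval_zero]; exact this
  have hdeg : G0.totalDegree < d := by
    by_cases hg' : G0 = 0
    · simp [hg']; omega
    · have := hh.totalDegree_le
      rw [totalDegree_mul_of_isDomain (X_ne_zero _) (mul_ne_zero (X_ne_zero _) hg'),
        totalDegree_mul_of_isDomain (X_ne_zero _) hg', totalDegree_X] at this
      omega
  obtain ⟨x, hx, hroot⟩ := exists_root G0 hg0 hdeg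
  obtain ⟨k, hk⟩ := Function.ne_iff.1 hx
  have hk1 : x k = 1 := z2_ne _ hk
  have hker' : ∀ v, matAt a x *ᵥ v = 0 → v = 0 ∨ v = x := by
    intro v hv
    set x' := bD.equivFun.symm x with hx'
    set v' := bD.equivFun.symm v with hv'
    have hA : A x' v' = 0 := by
      refine bD.ext fun i => ?_
      have := congrFun hv i
      simp only [mulVec, dotProduct, matAt, a, Finset.sum_mul, Pi.zero_apply] at this
      rw [LinearMap.zero_apply, ← this, hx', hv', Basis.equivFun_symm_apply,
        Basis.equivFun_symm_apply]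
      simp only [map_sum, map_smul, LinearMap.sum_apply, LinearMap.smul_apply, smul_eq_mul,
        Finset.mul_sum]
      refine Finset.sum_congr rfl fun j _ => Finset.sum_congr rfl fun l _ => ?_
      ring
    rcases hker x' (fun e => hx (bD.equivFun.symm.injective (e.trans (map_zero _).symm))) v' hA with h | h
    · left; exact bD.equivFun.symm.injective (h.trans (map_zero _).symm)
    · right; exact bD.equivFun.symm.injective h
  have hsymM : (matAt a x)ᵀ = matAt a x := by
    rw [← map_genMat, ← transpose_map, hT]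
  have hxM : matAt a x *ᵥ x = 0 := by
    rw [← map_genMat]
    ext r
    have := congrArg (eval x) (congrFun hX r)
    simpa [mulVec, dotProduct, map_sum] using this
  refine adj_ne_zero a x hker' k k hk (fun v hv => ?_) ?_
  · have h0 : x ⬝ᵥ (matAt a x *ᵥ v) = 0 := by
      rw [dotProduct_mulVec, ← mulVec_transpose, hsymM, hxM, zero_dotProduct]
    rw [dotProduct, Finset.sum_eq_single k (fun r _ hr => by rw [hv r hr, mul_zero]) (by simp),
      hk1, one_mul] at h0
    exact h0
  · rw [← eval_adj, hform k k, eval_mul, eval_mul, hroot, mul_zero, mul_zero]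

end Cfsg.Agent.CamKan
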