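import Cfsg.Agent.Lib.CamKan.Top

/-!
# Comparing the stabiliser of a vector with that of a functional

For an incident pair `x, f` the parameters satisfy `e ≤ e'`, and equality forces every
`U z`, `z ∈ Z f`, to contain one fixed subspace of codimension 1 in it.
-/

set_option autoImplicit false

namespace Cfsg.Agent.CamKan

open Module

theorem finrank_map_mkQ {N : Type*} [AddCommGroup N] [Module (ZMod 2) N] [Finite N] {x : N}
    (hx : x ≠ 0) (W : Submodule (ZMod 2) N) (hW : x ∈ W) :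
    finrank (ZMod 2) (W.map (Submodule.span (ZMod 2) {x}).mkQ) + 1 = finrank (ZMod 2) W := by
  set q := (Submodule.span (ZMod 2) {x}).mkQ with hq
  have hle : Submodule.span (ZMod 2) {x} ≤ W := (Submodule.span_singleton_le_iff_mem _ _).2 hW
  have h1 := (q.domRestrict W).finrank_range_add_finrank_ker
  rw [LinearMap.range_domRestrict, LinearMap.ker_domRestrict, hq, Submodule.ker_mkQ] at h1
  have h2 := (Submodule.comapSubtypeEquivOfLe hle).finrank_eq
  rw [finrank_span_singleton hx] at h2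
  rw [← h1, hq]
  exact congrArg _ h2.symm

theorem count_arith {n e d E t : ℕ} (he : e + 2 ≤ n) (hd : d ≤ E) (hde : d < e) (hE : E + 2 ≤ n)
    (h : (2 ^ (n - e) - 1) * (2 ^ e - 2 ^ d) = t * (2 ^ (n - 1) - 2 ^ E)) :
    d = E ∧ e = E + 1 ∧ t = 1 := by
  obtain ⟨A, rfl⟩ := Nat.exists_eq_add_of_le hde.le
  obtain ⟨B, hB⟩ := Nat.exists_eq_add_of_le (show E ≤ n - 1 by omega)
  set c := n - (d + A) with hc
  rw [hB, pow_add 2 d A, pow_add 2 E B, ← Nat.mul_sub_one, ← Nat.mul_sub_one] at h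
  have ho : ∀ a, 1 ≤ a → Odd (2 ^ a - 1) := fun a ha =>
    Nat.Even.sub_odd Nat.one_le_two_pow ((Nat.even_pow).2 ⟨even_two, by omega⟩) odd_one
  have hEd : E ≤ d := by
    have hdvd : 2 ^ E ∣ 2 ^ d * ((2 ^ c - 1) * (2 ^ A - 1)) :=
      ⟨t * (2 ^ B - 1), by rw [← mul_left_comm (2 ^ E)] at h; rw [← h]; ring⟩
    have hco : Nat.Coprime (2 ^ E) ((2 ^ c - 1) * (2 ^ A - 1)) :=
      Nat.Coprime.pow_left _ ((Nat.coprime_two_left).2 ((ho c (by omega)).mul (ho A (by omega))))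
    exact (Nat.pow_dvd_pow_iff_le_right (by norm_num)).1 (hco.dvd_of_dvd_mul_right hdvd)
  obtain rfl : d = E := le_antisymm hd hEd
  refine ⟨rfl, ?_⟩
  have h' : (2 ^ c - 1) * (2 ^ A - 1) = t * (2 ^ B - 1) := by
    apply Nat.eq_of_mul_eq_mul_left (show 0 < 2 ^ d by positivity)
    rw [mul_left_comm, h, mul_left_comm]
  have hcA : c + A = B + 1 := by omega
  rcases Nat.lt_or_ge A 2 with hA | hA
  · obtain rfl : A = 1 := by omega
    obtain rfl : c = B := by omega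
    refine ⟨rfl, ?_⟩
    norm_num at h'
    have : 1 ≤ 2 ^ c - 1 := by
      have := Nat.pow_le_pow_right (show 1 ≤ 2 by norm_num) (show 1 ≤ c by omega)
      omega
    exact (Nat.eq_of_mul_eq_mul_right (show 0 < 2 ^ c - 1 by omega) (by rw [one_mul]; exact h')).symm
  exfalso
  have hX : 4 ≤ 2 ^ c := by
    calc 4 = 2 ^ 2 := by norm_num
      _ ≤ 2 ^ c := Nat.pow_le_pow_right (by norm_num) (by omega)
  have hY : 4 ≤ 2 ^ A := by
    calc 4 = 2 ^ 2 := by norm_num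
      _ ≤ 2 ^ A := Nat.pow_le_pow_right (by norm_num) (by omega)
  have hXY : 2 ^ c * 2 ^ A = 2 * 2 ^ B := by rw [← pow_add, hcA, pow_succ']
  generalize 2 ^ c = X at *
  generalize 2 ^ A = Y at *
  generalize 2 ^ B = P at *
  obtain ⟨X', rfl⟩ := Nat.exists_eq_add_of_le hX
  obtain ⟨Y', rfl⟩ := Nat.exists_eq_add_of_le hY
  obtain ⟨P', rfl⟩ : ∃ P', P = 1 + P' := Nat.exists_eq_add_of_le (by nlinarith)
  rw [show 4 + X' - 1 = 3 + X' by omega, show 4 + Y' - 1 = 3 + Y' by omega,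
    show 1 + P' - 1 = P' by omega] at h'
  rcases t with _ | _ | t
  · nlinarith
  · nlinarith
  · nlinarith [Nat.zero_le (t * P')]

namespace Duo

variable {G : Type*} [Group G] {N N' : Type*} [AddCommGroup N] [Module (ZMod 2) N]
  [AddCommGroup N'] [Module (ZMod 2) N'] [Finite N] [Finite N'] [Finite G] {D : Duo G N N'}

theorem Top.compare (h : D.Top) {x : N} (hx : x ≠ 0) {f : N'} (hf : f ≠ 0) (hxf : D.b x f = 0)
    (he : 2 ≤ par (D.quot x).ρ) (he2 : par (D.quot x).ρ + 3 ≤ finrank (ZMod 2) N) :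
    par (D.quot x).ρ ≤ par (D.swap.quot f).ρ ∧
      (par (D.swap.quot f).ρ = par (D.quot x).ρ →
        ∃ G₀ : Submodule (ZMod 2) (N ⧸ Submodule.span (ZMod 2) {x}),
          finrank (ZMod 2) G₀ + 1 = par (D.quot x).ρ ∧
          (∀ z ∈ (D.quot x).Z ⟨f, mem_ann_span.2 hxf⟩, z ∈ G₀ ∧ G₀ ≤ U (D.quot x).ρ z) ∧
          ∀ z ∈ (D.quot x).Z ⟨f, mem_ann_span.2 hxf⟩, ∀ z' ∈ (D.quot x).Z ⟨f, mem_ann_span.2 hxf⟩,
            z ≠ z' → U (D.quot x).ρ z ⊓ U (D.quot x).ρ z' = G₀) := by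
  classical
  have hA := h.quot_ant hx
  set K := D.quot x with hKdef
  set fb : D.ann (Submodule.span (ZMod 2) {x}) := ⟨f, mem_ann_span.2 hxf⟩ with hfbdef
  have hfb : fb ≠ 0 := fun e => hf (congrArg Subtype.val e)
  -- the dual picture at `f`
  have hA' := h.swap.quot_ant hf
  set μ := (D.swap.quot f).swap with hμ
  have hμA : μ.Ant := hA'.swap
  have he' : par μ.ρ = par (D.swap.quot f).ρ := hA'.par_swap
  set x' : D.swap.ann (Submodule.span (ZMod 2) {f}) := ⟨x, mem_ann_span.2 hxf⟩ with hx'def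
  have hx' : x' ≠ 0 := fun e => hx (congrArg Subtype.val e)
  have hMker : ∀ w : D.swap.ann (Submodule.span (ZMod 2) {f}), D.b w.1 f = 0 := fun w =>
    w.2 f (Submodule.mem_span_singleton_self f)
  set L : Submodule (ZMod 2) N := (U μ.ρ x').map (D.swap.ann _).subtype with hL
  have hLdim : finrank (ZMod 2) L = par μ.ρ := by
    rw [hL, Submodule.finrank_map_subtype_eq, hμA.dim_U hx']
  have hxL : x ∈ L := ⟨x', hμA.self_mem hx', rfl⟩
  set G₀ := L.map (Submodule.span (ZMod 2) {x}).mkQ with hG₀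
  have hG₀dim : finrank (ZMod 2) G₀ + 1 = par μ.ρ := by
    rw [hG₀, finrank_map_mkQ hx L hxL, hLdim]
  have hG₀ker : ∀ u ∈ G₀, K.b u fb = 0 := by
    rintro _ ⟨_, ⟨w, -, rfl⟩, rfl⟩
    exact hMker w
  -- one orbit off `G₀`
  have htrans : ∀ p q, K.b p fb = 0 → p ∉ G₀ → K.b q fb = 0 → q ∉ G₀ →
      ∃ g ∈ stab K.σ fb, K.ρ g p = q := by
    intro p q hp hp' hq hq'
    induction p using Submodule.Quotient.induction_on with | H p => ?_
    induction q using Submodule.Quotient.induction_on with | H q => ?_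
    set p' : D.swap.ann (Submodule.span (ZMod 2) {f}) := ⟨p, mem_ann_span.2 hp⟩
    set q' : D.swap.ann (Submodule.span (ZMod 2) {f}) := ⟨q, mem_ann_span.2 hq⟩
    obtain ⟨g, hg, hgp⟩ := hμA.trans_compl hx' (a := p') (c := q')
      (fun e => hp' ⟨p, ⟨p', e, rfl⟩, rfl⟩) (fun e => hq' ⟨q, ⟨q', e, rfl⟩, rfl⟩)
    have hgx : D.ρ g.1 x = x := congrArg Subtype.val hg
    exact ⟨⟨g.1, hgx⟩, Subtype.ext g.2, congrArg Submodule.Quotient.mk (congrArg Subtype.val hgp)⟩
  have hinvG : ∀ g ∈ stab K.σ fb, ∀ u ∈ G₀, K.ρ g u ∈ G₀ := by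
    rintro g hg _ ⟨_, ⟨w, hw, rfl⟩, rfl⟩
    have hgf : D.σ g.1 f = f := congrArg Subtype.val hg
    have hgx' : (⟨g.1, hgf⟩ : stab D.swap.ρ f) ∈ stab μ.ρ x' := Subtype.ext g.2
    exact ⟨_, ⟨_, hμA.U_invariant hgx' hw, rfl⟩, rfl⟩
  have hmapG : ∀ g ∈ stab K.σ fb, G₀.map (K.ρ g).toLinearMap = G₀ := by
    intro g hg
    refine le_antisymm ?_ fun u hu => ⟨K.ρ g⁻¹ u, hinvG _ ((stab K.σ fb).inv_mem hg) u hu,
      apply_inv' K.ρ g u⟩
    rintro _ ⟨u, hu, rfl⟩; exact hinvG g hg u hu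
  -- numbers
  have hn := finrank_quot hx
  set n := finrank (ZMod 2) (N ⧸ Submodule.span (ZMod 2) {x}) with hndef
  set e := par K.ρ with hedef
  set E := finrank (ZMod 2) G₀ with hEdef
  set C := {p | K.b p fb = 0 ∧ p ∉ G₀} with hC
  have hCcard : C.ncard = 2 ^ (n - 1) - 2 ^ E := by
    have hh : C = (LinearMap.ker (K.b.flip fb) : Set _) \ (G₀ : Set _) := rfl
    have hsubK : (G₀ : Set (N ⧸ Submodule.span (ZMod 2) {x})) ⊆ (LinearMap.ker (K.b.flip fb) : Set _) :=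
      fun u hu => hG₀ker u hu
    rw [hh, Set.ncard_diff hsubK (Set.toFinite _), ncard_sub, ncard_sub]
    have := finrank_ker_dual (φ := K.b.flip fb) (K.flip_ne_zero hfb)
    congr 2
    omega
  have hZker : ∀ z ∈ K.Z fb, K.b z fb = 0 := fun z hz => hz.2 z (hA.self_mem hz.1)
  have he'le : E + 2 ≤ n := by
    have h1 := hA'.par_lt
    have h2 := finrank_quot (N := N') hf
    have h3 := D.finrank_eq
    omega
  -- `Z` lies in `G₀`
  have hZG : ∀ z ∈ K.Z fb, z ∈ G₀ := by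
    intro z hz
    by_contra hzG
    have heq : K.Z fb = C := by
      refine Set.Subset.antisymm ?_ fun p hp => ?_
      · rw [← hA.Z_orb hfb hz]
        rintro _ ⟨g, hg, rfl⟩
        refine ⟨hZker _ (hA.Z_invariant hg hz), fun hmem => hzG ?_⟩
        have hh := hinvG _ ((stab K.σ fb).inv_mem hg) _ hmem
        rwa [inv_apply'] at hh
      · obtain ⟨g, hg, rfl⟩ := htrans z p (hZker z hz) hzG hp.1 hp.2
        exact hA.Z_invariant hg hz
    have hodd := hA.Z_odd hfb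
    have hc := hA.Z_card hfb
    rw [heq, hCcard] at hodd hc
    rcases Nat.eq_zero_or_pos E with hE0 | hE0
    · rw [hE0, pow_zero] at hc
      rw [← hndef, ← hedef] at hc
      have h1 : 2 ^ (n - 1) = 2 ^ (n - e) := by
        have := Nat.one_le_two_pow (n := n - 1)
        have := Nat.one_le_two_pow (n := n - e)
        omega
      have := Nat.pow_right_injective le_rfl h1
      omega
    · refine (Nat.not_even_iff_odd.2 hodd) ?_
      rw [Nat.even_sub (Nat.pow_le_pow_right (by norm_num) (by omega))]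
      simp [Nat.even_pow, show n - 1 ≠ 0 by omega, hE0.ne']
  obtain ⟨z₀, hz₀⟩ := hA.Z_nonempty hfb
  by_cases hsub : U K.ρ z₀ ≤ G₀
  · have h1 := Submodule.finrank_mono hsub
    rw [hA.dim_U hz₀.1] at h1
    exact ⟨by omega, fun heq => by omega⟩
  set d := finrank (ZMod 2) (U K.ρ z₀ ⊓ G₀ : Submodule (ZMod 2) _) with hd
  have hdz : ∀ z ∈ K.Z fb, finrank (ZMod 2) (U K.ρ z ⊓ G₀ : Submodule (ZMod 2) _) = d := by
    intro z hz
    obtain ⟨g, hg, rfl⟩ := hA.Z_trans hfb hz₀ hz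
    rw [Duo.Ant.U_map]
    conv_lhs => rw [← hmapG g hg, ← Submodule.map_inf _ (K.ρ g).injective]
    exact LinearEquiv.finrank_map_eq _ _
  have hde : d < e := by
    rw [hedef, ← hA.dim_U hz₀.1]
    exact Submodule.finrank_lt_finrank_of_lt (inf_le_left.lt_of_ne fun heq =>
      hsub (heq ▸ inf_le_right))
  letI := Fintype.ofFinite (N ⧸ Submodule.span (ZMod 2) {x})
  set Zs := (K.Z fb).toFinset with hZs
  set Cs := C.toFinset with hCs
  let r : (N ⧸ Submodule.span (ZMod 2) {x}) → (N ⧸ Submodule.span (ZMod 2) {x}) → Prop :=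
    fun z u => u ∈ U K.ρ z
  have hrow : ∀ z ∈ Zs, (Cs.bipartiteAbove r z).card = 2 ^ e - 2 ^ d := by
    intro z hz
    rw [hZs, Set.mem_toFinset] at hz
    have hh : ((Cs.bipartiteAbove r z : Finset _) : Set _) =
        (U K.ρ z : Set (N ⧸ Submodule.span (ZMod 2) {x})) \
          ((U K.ρ z ⊓ G₀ : Submodule (ZMod 2) (N ⧸ Submodule.span (ZMod 2) {x})) :
            Set (N ⧸ Submodule.span (ZMod 2) {x})) := by
      ext u
      simp only [Finset.coe_bipartiteAbove, hCs, Set.mem_toFinset, Set.mem_setOf_eq, hC, r,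
        Set.mem_diff, SetLike.mem_coe, Submodule.mem_inf]
      exact ⟨fun hu => ⟨hu.2, fun hc => hu.1.2 hc.2⟩,
        fun hu => ⟨⟨hz.2 u hu.1, fun hc => hu.2 ⟨hu.1, hc⟩⟩, hu.1⟩⟩
    have hsubU : ((U K.ρ z ⊓ G₀ : Submodule (ZMod 2) _) : Set (N ⧸ Submodule.span (ZMod 2) {x})) ⊆
        (U K.ρ z : Set _) := fun _ hv => hv.1
    rw [← Set.ncard_coe_finset, hh, Set.ncard_diff hsubU (Set.toFinite _), ncard_sub,
      ncard_sub, hdz z hz, hA.dim_U hz.1]
  obtain ⟨u₀, hu₀U, hu₀G⟩ := Set.not_subset.1 hsub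
  have hu₀C : u₀ ∈ C := ⟨hz₀.2 u₀ hu₀U, hu₀G⟩
  set t := (Zs.bipartiteBelow r u₀).card with ht
  have hcol : ∀ u ∈ Cs, (Zs.bipartiteBelow r u).card = t := by
    intro u hu
    rw [hCs, Set.mem_toFinset] at hu
    obtain ⟨g, hg, rfl⟩ := htrans u₀ u hu₀C.1 hu₀G hu.1 hu.2
    rw [ht]
    symm
    refine Finset.card_bij' (fun z _ => K.ρ g z) (fun z _ => K.ρ g⁻¹ z) ?_ ?_
      (fun z _ => inv_apply' K.ρ g z) (fun z _ => apply_inv' K.ρ g z)
    · intro z hz
      simp only [Finset.mem_bipartiteBelow, hZs, Set.mem_toFinset, r] at hz ⊢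
      refine ⟨hA.Z_invariant hg hz.1, ?_⟩
      rw [Duo.Ant.U_map]; exact Submodule.mem_map_of_mem hz.2
    · intro z hz
      simp only [Finset.mem_bipartiteBelow, hZs, Set.mem_toFinset, r] at hz ⊢
      refine ⟨hA.Z_invariant ((stab K.σ fb).inv_mem hg) hz.1, ?_⟩
      rw [Duo.Ant.U_map]
      exact ⟨_, hz.2, inv_apply' K.ρ g u₀⟩
  have hsum := Finset.sum_card_bipartiteAbove_eq_sum_card_bipartiteBelow r (s := Zs) (t := Cs)
  rw [Finset.sum_congr rfl hrow, Finset.sum_congr rfl hcol, Finset.sum_const, Finset.sum_const,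
    smul_eq_mul, smul_eq_mul, hZs, hCs, ← Set.ncard_eq_toFinset_card', ← Set.ncard_eq_toFinset_card',
    hA.Z_card hfb, hCcard, mul_comm (2 ^ (n - 1) - 2 ^ E) t] at hsum
  obtain ⟨hdE, heE, ht1⟩ := count_arith (n := n) (by omega)
    (Submodule.finrank_mono inf_le_right) hde he'le hsum
  have hGU : ∀ z ∈ K.Z fb, G₀ ≤ U K.ρ z := fun z hz => inf_eq_right.1
    (Submodule.eq_of_le_of_finrank_eq inf_le_right ((hdz z hz).trans hdE))
  refine ⟨by omega, fun _ => ⟨G₀, by omega, fun z hz => ⟨hZG z hz, hGU z hz⟩,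
    fun z hz z' hz' hne => le_antisymm (fun u hu => ?_) (le_inf (hGU z hz) (hGU z' hz'))⟩⟩
  by_contra huG
  have huC : u ∈ Cs := by rw [hCs, Set.mem_toFinset]; exact ⟨hz.2 u hu.1, huG⟩
  have h1 := hcol u huC
  rw [ht1, Finset.card_eq_one] at h1
  obtain ⟨a, ha⟩ := h1
  have hza : ∀ w, w ∈ K.Z fb → u ∈ U K.ρ w → w = a := fun w hw hwu => by
    have : w ∈ Zs.bipartiteBelow r u := by
      simp only [Finset.mem_bipartiteBelow, hZs, Set.mem_toFinset, r]; exact ⟨hw, hwu⟩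
    rw [ha, Finset.mem_singleton] at this
    exact this
  exact hne ((hza z hz hu.1).trans (hza z' hz' hu.2).symm)

end Duo

end Cfsg.Agent.CamKan
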