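import Cfsg.Agent.Lib.CamKan.Basic

/-!
# Groups of linear maps over `𝔽₂` with an elation
-/

set_option autoImplicit false

namespace Cfsg.Agent.CamKan

open Module

variable {N : Type*} [AddCommGroup N] [Module (ZMod 2) N]

instance finite_equiv [Finite N] : Finite (N ≃ₗ[ZMod 2] N) :=
  Finite.of_injective (fun e => (e : N → N)) DFunLike.coe_injective

/-- The transvection `z ↦ z + φ z • v`. -/
def tvec (φ : Dual (ZMod 2) N) (v : N) (h : φ v = 0) : N ≃ₗ[ZMod 2] N :=
  LinearEquiv.ofInvolutive (LinearMap.id + φ.smulRight v) fun z => by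
    simp [h, add_assoc, vadd_self]

@[simp] theorem tvec_apply (φ : Dual (ZMod 2) N) (v : N) (h : φ v = 0) (z : N) :
    tvec φ v h z = z + φ z • v := rfl

theorem tvec_conj (k : N ≃ₗ[ZMod 2] N) (φ : Dual (ZMod 2) N) (v : N) (h : φ v = 0) :
    k * tvec φ v h * k⁻¹ =
      tvec (φ.comp k.symm.toLinearMap) (k v) (by simpa using h) := by
  ext z
  simp [LinearEquiv.mul_apply]

variable [Finite N]

theorem top_of_tvec (H : Subgroup (N ≃ₗ[ZMod 2] N))
    (h : ∀ φ v (hv : φ v = 0), φ ≠ 0 → v ≠ 0 → tvec φ v hv ∈ H) : H = ⊤ := by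
  suffices ∀ c : ℕ, ∀ g : N ≃ₗ[ZMod 2] N, finrank (ZMod 2) N ≤
      finrank (ZMod 2) (LinearMap.ker (g.toLinearMap - LinearMap.id)) + c → g ∈ H from
    eq_top_iff.2 fun g _ => this _ g (Nat.le_add_left _ _)
  intro c
  induction c with
  | zero =>
    intro g hg
    have : LinearMap.ker (g.toLinearMap - LinearMap.id) = ⊤ :=
      Submodule.eq_top_of_finrank_eq (le_antisymm (Submodule.finrank_le _) (by simpa using hg))
    have hg1 : g = 1 := by
      ext z
      have : z ∈ LinearMap.ker (g.toLinearMap - LinearMap.id) := this ▸ trivial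
      simpa [sub_eq_zero] using this
    rw [hg1]; exact one_mem _
  | succ c ih =>
    intro g hg
    set W := LinearMap.ker (g.toLinearMap - LinearMap.id) with hW
    have hfix : ∀ z, z ∈ W ↔ g z = z := fun z => by simp [hW, sub_eq_zero]
    by_cases hall : ∀ z, g z = z
    · rw [show g = 1 from LinearEquiv.ext hall]; exact one_mem _
    push Not at hall
    obtain ⟨a, ha⟩ := hall
    have haW : a ∉ W := fun hh => ha ((hfix a).1 hh)
    have hbW : g a ∉ W := fun hh => ha (g.injective ((hfix (g a)).1 hh))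
    have hnot : a ∉ W ⊔ Submodule.span (ZMod 2) {a + g a} := by
      intro hh
      obtain ⟨w, hw, s, hs, hsum⟩ := Submodule.mem_sup.1 hh
      rcases mem_span1.1 hs with rfl | rfl
      · exact haW (by rw [← hsum, add_zero]; exact hw)
      · refine hbW ?_
        have : g a = w := by
          rw [← add_eq_zero']
          calc g a + w = (w + (a + g a)) + a := by
                rw [show w + (a + g a) + a = g a + w + (a + a) by abel, vadd_self, add_zero]
            _ = 0 := by rw [hsum, vadd_self]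
        rw [this]; exact hw
    obtain ⟨φ, h1, h2⟩ := exists_dual_one _ hnot
    have h0 : φ (a + g a) = 0 := h1 _ (Submodule.mem_sup_right (Submodule.mem_span_singleton_self _))
    have hφ : φ ≠ 0 := fun e => by simp [e] at h2
    set t := tvec φ (a + g a) h0 with ht
    have htH : t ∈ H := h φ _ h0 hφ fun e => ha (add_eq_zero'.1 e).symm
    have hgb : φ (g a) = 1 := by
      rw [map_add, h2] at h0
      rcases z2 (φ (g a)) with e | e
      · rw [e] at h0; exact absurd h0 one_ne_zero
      · exact e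
    have hmem : t * g ∈ H := by
      refine ih (t * g) ?_
      have hle : W ⊔ Submodule.span (ZMod 2) {a} ≤
          LinearMap.ker ((t * g).toLinearMap - LinearMap.id) := by
        refine sup_le (fun z hz => ?_) ((Submodule.span_singleton_le_iff_mem _ _).2 ?_)
        · simp only [LinearMap.mem_ker, LinearMap.sub_apply, LinearEquiv.coe_coe, sub_eq_zero,
            LinearMap.id_apply, LinearEquiv.mul_apply, (hfix z).1 hz, ht, tvec_apply,
            h1 z (Submodule.mem_sup_left hz), zero_smul, add_zero]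
        · simp only [LinearMap.mem_ker, LinearMap.sub_apply, LinearEquiv.coe_coe, sub_eq_zero,
            LinearMap.id_apply, LinearEquiv.mul_apply, ht, tvec_apply, hgb, one_smul]
          rw [add_comm a, ← add_assoc, vadd_self, zero_add]
      have := Submodule.finrank_mono hle
      rw [Submodule.finrank_sup_span_singleton haW] at this
      omega
    simpa using H.mul_mem (H.inv_mem htH) hmem

/-- An elation in a group transitive on incident point–hyperplane pairs gives everything. -/
theorem top_of_elation (H : Subgroup (N ≃ₗ[ZMod 2] N))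
    (hinc : ∀ (φ ψ : Dual (ZMod 2) N) (v w : N), φ ≠ 0 → ψ ≠ 0 → v ≠ 0 → w ≠ 0 → φ v = 0 →
      ψ w = 0 → ∃ k ∈ H, k v = w ∧ φ.comp k.symm.toLinearMap = ψ)
    {g : N ≃ₗ[ZMod 2] N} (hg : g ∈ H) (hg1 : g ≠ 1) {x : N} (hx : x ≠ 0) (hgx : g x = x)
    (hel : ∀ z, g z + z = 0 ∨ g z + z = x) : H = ⊤ := by
  classical
  let c : N → ZMod 2 := fun z => if g z + z = 0 then 0 else 1
  have hc : ∀ z, g z + z = c z • x := fun z => by
    rcases hel z with e | e <;> simp [c, e, hx]
  have hinj : ∀ a b : ZMod 2, a • x = b • x → a = b := by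
    intro a b e
    rcases z2 a with rfl | rfl <;> rcases z2 b with rfl | rfl <;> simp_all
  let φ : Dual (ZMod 2) N := (AddMonoidHom.mk' c fun z w => hinj _ _ (by
    rw [add_smul, ← hc, ← hc, ← hc, map_add, add_add_add_comm])).toZModLinearMap 2
  have hφc : ∀ z, φ z = c z := fun _ => rfl
  have hφx : φ x = 0 := by rw [hφc]; simp [c, hgx, vadd_self]
  have hge : g = tvec φ x hφx := by
    ext z
    rw [tvec_apply, hφc, ← hc, add_comm (g z), ← add_assoc, vadd_self, zero_add]
  have hφ : φ ≠ 0 := fun e => hg1 (LinearEquiv.ext fun z => by simp [hge, e])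
  refine top_of_tvec H fun ψ v hv hψ hv0 => ?_
  obtain ⟨k, hk, hkv, hkφ⟩ := hinc φ ψ x v hφ hψ hx hv0 hφx hv
  have := H.mul_mem (H.mul_mem hk hg) (H.inv_mem hk)
  rw [hge, tvec_conj] at this
  subst hkv hkφ
  exact this

theorem card_linearEquiv :
    Nat.card (N ≃ₗ[ZMod 2] N) =
      ∏ i : Fin (finrank (ZMod 2) N), (2 ^ finrank (ZMod 2) N - 2 ^ (i : ℕ)) := by
  let b := Module.finBasis (ZMod 2) N
  rw [← Nat.card_congr (LinearMap.GeneralLinearGroup.generalLinearEquiv (ZMod 2) N).toEquiv,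
    Nat.card_congr (Units.mapEquiv (LinearMap.toMatrixAlgEquiv b).toMulEquiv).toEquiv,
    Matrix.card_GL_field]
  simp [ZMod.card]

/-- No group of order `31 · 2520` of linear maps of `𝔽₂⁵`. -/
theorem not_five (H : Subgroup (N ≃ₗ[ZMod 2] N)) (hN : finrank (ZMod 2) N = 5)
    (hH : Nat.card H = 31 * 2520) : False := by
  haveI : Fact (Nat.Prime 31) := ⟨by norm_num⟩
  obtain ⟨P⟩ : Nonempty (Sylow 31 H) := inferInstance
  have hP : Nat.card (P : Subgroup H) = 31 := by
    rw [Sylow.card_eq_multiplicity, hH, Nat.factorization_mul (by norm_num) (by norm_num),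
      Finsupp.coe_add, Pi.add_apply, Nat.Prime.factorization_self (by norm_num),
      Nat.factorization_eq_zero_of_not_dvd (by norm_num)]
    norm_num
  haveI : IsCyclic (P : Subgroup H) := isCyclic_of_prime_card hP
  obtain ⟨g, hg⟩ := IsCyclic.exists_ofOrder_eq_natCard (α := (P : Subgroup H))
  rw [hP] at hg
  have hgen : ∀ p : H, p ∈ (P : Subgroup H) ↔ p ∈ Subgroup.zpowers (g : H) := by
    intro p
    have : Subgroup.zpowers (g : H) = (P : Subgroup H) := Subgroup.eq_of_le_of_card_ge
      (Subgroup.zpowers_le.2 g.2) (by rw [hP, Nat.card_zpowers, Subgroup.orderOf_coe, hg])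
    rw [this]
  -- `g` permutes the non-zero vectors in one cycle
  set γ : N ≃ₗ[ZMod 2] N := ((g : H) : N ≃ₗ[ZMod 2] N) with hγ
  have hγord : orderOf γ = 31 := by rw [hγ, Subgroup.orderOf_coe, Subgroup.orderOf_coe, hg]
  obtain ⟨v, hv⟩ : ∃ v, γ v ≠ v := by
    by_contra hc; push Not at hc
    rw [show γ = 1 from LinearEquiv.ext hc, orderOf_one] at hγord
    norm_num at hγord
  let ρ : (N ≃ₗ[ZMod 2] N) →* (N ≃ₗ[ZMod 2] N) := MonoidHom.id _
  have horb : (orb ρ (Subgroup.zpowers γ) v).ncard = 31 := by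
    have h1 := orb_card (ρ := ρ) (Subgroup.zpowers γ) v
    rw [Nat.card_zpowers, hγord] at h1
    rcases (Nat.dvd_prime (by norm_num)).1 (Dvd.intro _ h1) with e | e
    · exfalso
      obtain ⟨a, ha⟩ := Set.ncard_eq_one.1 e
      have e1 : v ∈ orb ρ (Subgroup.zpowers γ) v := self_mem_orb _ _
      have e2 : γ v ∈ orb ρ (Subgroup.zpowers γ) v := ⟨γ, Subgroup.mem_zpowers γ, rfl⟩
      rw [ha] at e1 e2
      exact hv (e2.trans e1.symm)
    · exact e
  have hv0 : v ≠ 0 := fun e => hv (by simp [e])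
  have hall : orb ρ (Subgroup.zpowers γ) v = (Set.univ : Set N) \ {0} := by
    refine Set.eq_of_subset_of_ncard_le ?_ ?_ (Set.toFinite _)
    · rintro _ ⟨k, -, rfl⟩; exact ⟨trivial, by simp [hv0]⟩
    · rw [horb, Set.ncard_diff_singleton_of_mem (Set.mem_univ _), Set.ncard_univ, card_pow, hN]
      norm_num
  have hcent : Subgroup.centralizer ((P : Subgroup H) : Set H) ≤ (P : Subgroup H) := by
    intro c hc
    obtain ⟨k, hk, hkv⟩ : (c : N ≃ₗ[ZMod 2] N) v ∈ orb ρ (Subgroup.zpowers γ) v := by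
      rw [hall]; exact ⟨trivial, by simp [hv0]⟩
    have hcomm : Commute (c : N ≃ₗ[ZMod 2] N) γ :=
      (congrArg Subtype.val (Subgroup.mem_centralizer_iff.1 hc (g : H) g.2)).symm
    obtain ⟨i, rfl⟩ := Subgroup.mem_zpowers_iff.1 hk
    have hci : (c : N ≃ₗ[ZMod 2] N) = γ ^ i := by
      refine LinearEquiv.ext fun z => ?_
      by_cases hz : z = 0
      · simp [hz]
      obtain ⟨m, hm, rfl⟩ : z ∈ orb ρ (Subgroup.zpowers γ) v := by
        rw [hall]; exact ⟨trivial, hz⟩
      obtain ⟨j, rfl⟩ := Subgroup.mem_zpowers_iff.1 hm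
      change (γ ^ i) v = _ at hkv
      change (c : N ≃ₗ[ZMod 2] N) ((γ ^ j) v) = (γ ^ i) ((γ ^ j) v)
      rw [← LinearEquiv.mul_apply, (hcomm.zpow_right j).eq, LinearEquiv.mul_apply, ← hkv,
        ← LinearEquiv.mul_apply, ← LinearEquiv.mul_apply, ← zpow_add, ← zpow_add, add_comm]
    rw [hgen]
    exact Subgroup.mem_zpowers_iff.2 ⟨i, Subtype.ext (by rw [hci, hγ]; simp)⟩
  set Nm := Subgroup.normalizer ((P : Subgroup H) : Set H) with hNm
  have hk := Subgroup.card_dvd_of_injective _
    (QuotientGroup.kerLift_injective (P : Subgroup H).normalizerMonoidHom)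
  rw [IsCyclic.card_mulAut, hP, Nat.totient_prime (by norm_num)] at hk
  have hker : Nat.card (P : Subgroup H).normalizerMonoidHom.ker ∣ 31 := by
    refine (?_ : _ ∣ Nat.card (P : Subgroup H)).trans (dvd_of_eq hP)
    rw [Subgroup.normalizerMonoidHom_ker,
      ← Subgroup.card_map_of_injective (Subgroup.subtype_injective _)]
    exact Subgroup.card_dvd_of_le (by
      rintro _ ⟨p, hp, rfl⟩
      exact hcent hp)
  have hNcard : Nat.card Nm ∣ 30 * 31 := by
    rw [Subgroup.card_eq_card_quotient_mul_card_subgroup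
      (P : Subgroup H).normalizerMonoidHom.ker]
    exact mul_dvd_mul hk hker
  have hmod := card_sylow_modEq_one 31 H
  rw [P.card_eq_index_normalizer] at hmod
  change Nm.index ≡ 1 [MOD 31] at hmod
  have hidx := Nm.index_mul_card
  rw [hH] at hidx
  obtain ⟨d, hd, hd'⟩ : ∃ d, Nat.card Nm = 31 * d ∧ d ∣ 30 := by
    obtain ⟨d, hd⟩ : 31 ∣ Nat.card Nm := by
      rw [← hP]; exact Subgroup.card_dvd_of_le Subgroup.le_normalizer
    refine ⟨d, hd, ?_⟩
    rw [hd, mul_comm 30 31] at hNcard
    exact (Nat.mul_dvd_mul_iff_left (by norm_num)).1 hNcard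
  rw [hd, mul_left_comm] at hidx
  have hid : Nm.index * d = 2520 := Nat.eq_of_mul_eq_mul_left (by norm_num) hidx
  have hdle : d ≤ 30 := Nat.le_of_dvd (by norm_num) hd'
  rw [Nat.ModEq] at hmod
  interval_cases d <;> omega

end Cfsg.Agent.CamKan
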