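import Cfsg.Agent.Lib.CamKan.CW

/-!
# The geometry left by the equality case does not exist

`Geo U e`: subspaces `U v` of dimension `e ≤ n - 2`, symmetric, such that the points with
`U` inside a given hyperplane form a subspace of dimension `n - e` whose subspaces `U` meet
pairwise in a fixed subspace of dimension `e - 1`. No such configuration exists.
-/

set_option autoImplicit false

namespace Cfsg.Agent.CamKan

open Module

theorem add_mem_of_corank_one {V : Type*} [AddCommGroup V] [Module (ZMod 2) V] [Finite V]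
    {G₀ W : Submodule (ZMod 2) V} (hle : G₀ ≤ W)
    (hdim : finrank (ZMod 2) G₀ + 1 = finrank (ZMod 2) W) {a b : V} (ha : a ∈ W) (ha' : a ∉ G₀)
    (hb : b ∈ W) (hb' : b ∉ G₀) : a + b ∈ G₀ := by
  have hWeq : G₀ ⊔ Submodule.span (ZMod 2) {a} = W := by
    refine Submodule.eq_of_le_of_finrank_eq
      (sup_le hle ((Submodule.span_singleton_le_iff_mem _ _).2 ha)) ?_
    rw [Submodule.finrank_sup_span_singleton ha', hdim]
  rw [← hWeq, Submodule.mem_sup] at hb
  obtain ⟨g, hg, c, hc, rfl⟩ := hb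
  rcases mem_span1.1 hc with h | h
  · exact absurd (by rw [h, add_zero]; exact hg) hb'
  · rw [h, add_comm g a, ← add_assoc, vadd_self, zero_add]; exact hg

/-- The vectors whose subspace lies in the kernel of `φ`. -/
def zset {V : Type*} [AddCommGroup V] [Module (ZMod 2) V] (U : V → Submodule (ZMod 2) V)
    (φ : Dual (ZMod 2) V) : Set V :=
  {v | v ≠ 0 ∧ ∀ u ∈ U v, φ u = 0}

/-- The configuration of the equality case. -/
structure Geo {V : Type*} [AddCommGroup V] [Module (ZMod 2) V] (U : V → Submodule (ZMod 2) V)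
    (e : ℕ) : Prop where
  two_le : 2 ≤ e
  le_sub : e + 2 ≤ finrank (ZMod 2) V
  self_mem : ∀ v, v ≠ 0 → v ∈ U v
  dim : ∀ v, v ≠ 0 → finrank (ZMod 2) (U v) = e
  symm : ∀ v w, v ≠ 0 → w ≠ 0 → w ∈ U v → v ∈ U w
  zcard : ∀ φ, φ ≠ 0 → (zset U φ).ncard = 2 ^ (finrank (ZMod 2) V - e) - 1
  zadd : ∀ φ, φ ≠ 0 → ∀ v ∈ zset U φ, ∀ w ∈ zset U φ, v + w ≠ 0 → v + w ∈ zset U φ
  core : ∀ φ, φ ≠ 0 → ∃ G₀ : Submodule (ZMod 2) V, finrank (ZMod 2) G₀ + 1 = e ∧
    (∀ z ∈ zset U φ, z ∈ G₀ ∧ G₀ ≤ U z) ∧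
    ∀ z ∈ zset U φ, ∀ z' ∈ zset U φ, z ≠ z' → U z ⊓ U z' = G₀

namespace Geo

variable {V : Type*} [AddCommGroup V] [Module (ZMod 2) V] [Finite V]
  {U : V → Submodule (ZMod 2) V} {e : ℕ} (h : Geo U e)

/-- The functionals killing `U v`. -/
def An (U : V → Submodule (ZMod 2) V) (v : V) : Submodule (ZMod 2) (Dual (ZMod 2) V) :=
  (U v).dualAnnihilator

omit [Finite V] in
theorem mem_An {v : V} {φ : Dual (ZMod 2) V} : φ ∈ An U v ↔ ∀ u ∈ U v, φ u = 0 :=
  Submodule.mem_dualAnnihilator _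

include h

omit [Finite V] in
theorem inter {v w u : V} (hv : v ≠ 0) (hw : w ≠ 0) (hvw : v + w ≠ 0) (huv : u ∈ U v)
    (huw : u ∈ U w) : u ∈ U (v + w) := by
  by_cases hu : u = 0
  · rw [hu]; exact zero_mem _
  · exact h.symm u (v + w) hu hvw (add_mem (h.symm v u hv hu huv) (h.symm w u hw hu huw))

omit [Finite V] in
theorem sum_le {v w : V} (hv : v ≠ 0) (hw : w ≠ 0) (hvw : v + w ≠ 0) :
    U (v + w) ≤ U v ⊔ U w := by
  intro u hu
  by_contra hc
  obtain ⟨φ, h1, h2⟩ := exists_dual_one _ hc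
  have hφ : φ ≠ 0 := fun e => by simp [e] at h2
  have := (h.zadd φ hφ v ⟨hv, fun a ha => h1 a (Submodule.mem_sup_left ha)⟩ w
    ⟨hw, fun a ha => h1 a (Submodule.mem_sup_right ha)⟩ hvw).2 u hu
  rw [this] at h2
  exact zero_ne_one h2

theorem An_dim {v : V} (hv : v ≠ 0) :
    finrank (ZMod 2) (An U v) = finrank (ZMod 2) V - e := by
  have := Subspace.finrank_add_finrank_dualAnnihilator_eq (U v)
  rw [h.dim v hv] at this
  rw [An]; omega

theorem An_le_sup {v w : V} (hv : v ≠ 0) (hw : w ≠ 0) (hvw : v + w ≠ 0) :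
    An U (v + w) ≤ An U v ⊔ An U w := by
  rw [An, An, An, ← Subspace.dualAnnihilator_inf_eq]
  exact Submodule.dualAnnihilator_anti fun u hu => h.inter hv hw hvw hu.1 hu.2

theorem cl_le : finrank (ZMod 2) V + 1 ≤ 2 * e := by
  have h1 := h.le_sub
  have hn : Nontrivial V := by
    rw [← Finite.one_lt_card_iff_nontrivial, card_pow]
    exact Nat.one_lt_two_pow (by omega)
  obtain ⟨v, hv⟩ := exists_ne (0 : V)
  obtain ⟨φ, -, hφ⟩ := exists_dual_one (⊥ : Submodule (ZMod 2) V) (v := v) (by simpa using hv)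
  have hφ0 : φ ≠ 0 := fun e => by simp [e] at hφ
  obtain ⟨G₀, hd, hz, -⟩ := h.core φ hφ0
  have hle : (zset U φ).ncard ≤ ((G₀ : Set V) \ {0}).ncard :=
    Set.ncard_le_ncard (fun z hz' => ⟨(hz z hz').1, hz'.1⟩) (Set.toFinite _)
  rw [h.zcard φ hφ0, ncard_diff_zero] at hle
  have h2 : 2 ^ (finrank (ZMod 2) V - e) ≤ 2 ^ finrank (ZMod 2) G₀ := by
    have := Nat.one_le_two_pow (n := finrank (ZMod 2) G₀)
    omega
  have := (Nat.pow_le_pow_iff_right (show 1 < 2 by norm_num)).1 h2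
  omega

/-- A point whose subspace is complementary to the given core. -/
theorem exists_r (G₀ : Submodule (ZMod 2) V) (hG : finrank (ZMod 2) G₀ + 1 = e) :
    ∃ r, r ≠ 0 ∧ U r ⊔ G₀ = ⊤ := by
  classical
  letI := Fintype.ofFinite V
  letI := Fintype.ofFinite (Dual (ZMod 2) V)
  by_contra hc
  push Not at hc
  set A := ((G₀.dualAnnihilator : Set (Dual (ZMod 2) V)) \ {0}).toFinset with hA
  have hsub : (Finset.univ.filter fun v : V => v ≠ 0) ⊆ A.biUnion fun φ => (zset U φ).toFinset := by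
    intro v hv
    simp only [Finset.mem_filter, Finset.mem_univ, true_and] at hv
    obtain ⟨u, hu⟩ : ∃ u, u ∉ U v ⊔ G₀ := by
      by_contra hc'; push Not at hc'
      exact hc v hv (eq_top_iff.2 fun u _ => hc' u)
    obtain ⟨φ, h1, h2⟩ := exists_dual_one _ hu
    simp only [Finset.mem_biUnion, hA, Set.mem_toFinset]
    refine ⟨φ, ⟨?_, fun e => by simp [Set.mem_singleton_iff.1 e] at h2⟩,
      hv, fun a ha => h1 a (Submodule.mem_sup_left ha)⟩
    rw [SetLike.mem_coe, Submodule.mem_dualAnnihilator]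
    exact fun w hw => h1 w (Submodule.mem_sup_right hw)
  have hb := (Finset.card_le_card hsub).trans (Finset.card_biUnion_le_card_mul A _
    (2 ^ (finrank (ZMod 2) V - e) - 1) fun φ hφ => le_of_eq (by
      rw [← Set.ncard_eq_toFinset_card']
      exact h.zcard φ fun e => by simp [hA, e] at hφ))
  rw [hA, ← Set.ncard_eq_toFinset_card', ncard_diff_zero] at hb
  have hN : (Finset.univ.filter fun v : V => v ≠ 0).card = 2 ^ finrank (ZMod 2) V - 1 := by
    rw [Finset.filter_ne', Finset.card_erase_of_mem (Finset.mem_univ _), Finset.card_univ,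
      ← Nat.card_eq_fintype_card, card_pow]
  have hd := Subspace.finrank_add_finrank_dualAnnihilator_eq G₀
  have := h.le_sub
  have := h.cl_le
  rw [hN, show finrank (ZMod 2) G₀.dualAnnihilator = finrank (ZMod 2) V - e + 1 by omega] at hb
  set c := finrank (ZMod 2) V - e with hc'
  have h2 : 2 ^ (2 * c + 1) ≤ 2 ^ finrank (ZMod 2) V := Nat.pow_le_pow_right (by norm_num) (by omega)
  rw [pow_succ, two_mul, pow_add] at h2
  rw [pow_succ] at hb
  have hX : 2 ≤ 2 ^ c := by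
    calc 2 = 2 ^ 1 := rfl
      _ ≤ 2 ^ c := Nat.pow_le_pow_right (by norm_num) (by omega)
  generalize 2 ^ c = X at *
  generalize 2 ^ finrank (ZMod 2) V = P at *
  obtain ⟨X', rfl⟩ := Nat.exists_eq_add_of_le hX
  rw [show (2 + X') * 2 - 1 = 3 + 2 * X' by omega, show 2 + X' - 1 = 1 + X' by omega] at hb
  obtain ⟨P', rfl⟩ : ∃ P', P = 1 + P' := Nat.exists_eq_add_of_le (by nlinarith)
  rw [show 1 + P' - 1 = P' by omega] at hb
  nlinarith

end Geo

/-- A point `r` in general position with respect to a core `G₀`. -/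
structure Base {V : Type*} [AddCommGroup V] [Module (ZMod 2) V] (U : V → Submodule (ZMod 2) V)
    (G₀ : Submodule (ZMod 2) V) (r : V) : Prop where
  r_ne : r ≠ 0
  top : U r ⊔ G₀ = ⊤

/-- The points over the core. -/
def Good {V : Type*} [AddCommGroup V] [Module (ZMod 2) V] (U : V → Submodule (ZMod 2) V)
    (G₀ : Submodule (ZMod 2) V) (y : V) : Prop :=
  y ≠ 0 ∧ G₀ ≤ U y

/-- A pair of points over the core with a common hyperplane. -/
structure Pair {V : Type*} [AddCommGroup V] [Module (ZMod 2) V] (U : V → Submodule (ZMod 2) V)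
    (G₀ : Submodule (ZMod 2) V) (v z : V) : Prop where
  ne : v ≠ z
  ex : ∃ φ, φ ≠ 0 ∧ v ∈ zset U φ ∧ z ∈ zset U φ
  inf : U v ⊓ U z = G₀

open Classical in
/-- The graph map `An r → An y` of `An (r + y)`. -/
noncomputable def phi {V : Type*} [AddCommGroup V] [Module (ZMod 2) V]
    (U : V → Submodule (ZMod 2) V) (r y : V) (q : Dual (ZMod 2) V) : Dual (ZMod 2) V :=
  if hh : y ≠ 0 ∧ ∃ p, p ∈ Geo.An U y ∧ q + p ∈ Geo.An U (r + y) then hh.2.choose else 0

namespace Geo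

variable {V : Type*} [AddCommGroup V] [Module (ZMod 2) V] [Finite V]
  {U : V → Submodule (ZMod 2) V} {e : ℕ} (h : Geo U e)
  {G₀ : Submodule (ZMod 2) V} {r : V} (hb : Base U G₀ r)
include h hb

theorem sup_top {y : V} (hy : Good U G₀ y) : U r ⊔ U y = ⊤ :=
  eq_top_iff.2 (hb.top ▸ sup_le_sup_left hy.2 _)

theorem ry_ne {y : V} (hy : Good U G₀ y) : r + y ≠ 0 := fun e' => by
  have hs := h.sup_top hb hy
  rw [← add_eq_zero'.1 e', sup_idem] at hs
  have := h.dim r hb.r_ne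
  rw [hs, finrank_top] at this
  have := h.le_sub
  omega

theorem inf_y {y : V} (hy : Good U G₀ y) : An U (r + y) ⊓ An U y = ⊥ := by
  rw [eq_bot_iff]
  intro φ hφ
  have hker : U r ⊔ U y ≤ LinearMap.ker φ := by
    have h1 : U r ≤ U (r + y) ⊔ U y := by
      have := h.sum_le (h.ry_ne hb hy) hy.1 (by rw [add_assoc, vadd_self, add_zero]; exact hb.r_ne)
      rwa [add_assoc, vadd_self, add_zero] at this
    have h2 : U (r + y) ⊔ U y ≤ LinearMap.ker φ :=
      sup_le (fun u hu => mem_An.1 hφ.1 u hu) fun u hu => mem_An.1 hφ.2 u hu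
    exact sup_le (h1.trans h2) (le_sup_right.trans h2)
  rw [h.sup_top hb hy] at hker
  exact (Submodule.mem_bot _).2 (LinearMap.ext fun v => hker (x := v) trivial)

theorem inf_r {y : V} (hy : Good U G₀ y) : An U (r + y) ⊓ An U r = ⊥ := by
  rw [eq_bot_iff]
  intro φ hφ
  have hker : U r ⊔ U y ≤ LinearMap.ker φ := by
    have h1 : U y ≤ U r ⊔ U (r + y) := by
      have := h.sum_le hb.r_ne (h.ry_ne hb hy) (by rw [← add_assoc, vadd_self, zero_add]; exact hy.1)
      rwa [← add_assoc, vadd_self, zero_add] at this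
    have h2 : U r ⊔ U (r + y) ≤ LinearMap.ker φ :=
      sup_le (fun u hu => mem_An.1 hφ.2 u hu) fun u hu => mem_An.1 hφ.1 u hu
    exact sup_le (le_sup_left.trans h2) (h1.trans h2)
  rw [h.sup_top hb hy] at hker
  exact (Submodule.mem_bot _).2 (LinearMap.ext fun v => hker (x := v) trivial)

theorem sup_eq_y {y : V} (hy : Good U G₀ y) :
    An U (r + y) ⊔ An U y = An U r ⊔ An U y ∧ An U (r + y) ⊔ An U r = An U r ⊔ An U y := by
  have hle := h.An_le_sup hb.r_ne hy.1 (h.ry_ne hb hy)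
  have h1 := Submodule.finrank_sup_add_finrank_inf_eq (An U (r + y)) (An U y)
  have h2 := Submodule.finrank_sup_add_finrank_inf_eq (An U (r + y)) (An U r)
  have h3 := Submodule.finrank_add_le_finrank_add_finrank (An U r) (An U y)
  rw [h.inf_y hb hy, finrank_bot, h.An_dim (h.ry_ne hb hy), h.An_dim hy.1] at h1
  rw [h.inf_r hb hy, finrank_bot, h.An_dim (h.ry_ne hb hy), h.An_dim hb.r_ne] at h2
  rw [h.An_dim hy.1, h.An_dim hb.r_ne] at h3
  exact ⟨Submodule.eq_of_le_of_finrank_le (sup_le hle le_sup_right) (by omega),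
    Submodule.eq_of_le_of_finrank_le (sup_le hle le_sup_left) (by omega)⟩

theorem phi_spec {y : V} (hy : Good U G₀ y) {q : Dual (ZMod 2) V} (hq : q ∈ An U r) :
    phi U r y q ∈ An U y ∧ q + phi U r y q ∈ An U (r + y) := by
  have hex : ∃ p, p ∈ An U y ∧ q + p ∈ An U (r + y) := by
    have hq' : q ∈ An U (r + y) ⊔ An U y := by
      rw [(h.sup_eq_y hb hy).1]; exact Submodule.mem_sup_left hq
    obtain ⟨s, hs, p, hp, rfl⟩ := Submodule.mem_sup.1 hq'
    exact ⟨p, hp, by rw [add_assoc, vadd_self, add_zero]; exact hs⟩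
  rw [phi, dif_pos ⟨hy.1, hex⟩]
  exact (And.intro hy.1 hex).2.choose_spec

theorem phi_eq {y : V} (hy : Good U G₀ y) {q p : Dual (ZMod 2) V} (hq : q ∈ An U r)
    (hp : p ∈ An U y) (hqp : q + p ∈ An U (r + y)) : phi U r y q = p := by
  obtain ⟨h1, h2⟩ := h.phi_spec hb hy hq
  have hmem : phi U r y q + p ∈ An U (r + y) ⊓ An U y := by
    refine ⟨?_, add_mem h1 hp⟩
    have := add_mem h2 hqp
    rwa [add_add_add_comm, vadd_self, zero_add] at this
  rw [h.inf_y hb hy, Submodule.mem_bot] at hmem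
  exact add_eq_zero'.1 hmem

theorem phi_add {y : V} (hy : Good U G₀ y) {q q' : Dual (ZMod 2) V} (hq : q ∈ An U r)
    (hq' : q' ∈ An U r) : phi U r y (q + q') = phi U r y q + phi U r y q' := by
  obtain ⟨h1, h2⟩ := h.phi_spec hb hy hq
  obtain ⟨h3, h4⟩ := h.phi_spec hb hy hq'
  exact h.phi_eq hb hy (add_mem hq hq') (add_mem h1 h3) (by
    rw [add_add_add_comm]; exact add_mem h2 h4)

theorem phi_zero {y : V} (hy : Good U G₀ y) : phi U r y 0 = 0 :=
  h.phi_eq hb hy (zero_mem _) (zero_mem _) (by rw [add_zero]; exact zero_mem _)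

theorem phi_inj {y : V} (hy : Good U G₀ y) {q : Dual (ZMod 2) V} (hq : q ∈ An U r)
    (h0 : phi U r y q = 0) : q = 0 := by
  obtain ⟨-, h2⟩ := h.phi_spec hb hy hq
  rw [h0, add_zero] at h2
  have : q ∈ An U (r + y) ⊓ An U r := ⟨h2, hq⟩
  rwa [h.inf_r hb hy, Submodule.mem_bot] at this

theorem phi_surj {y : V} (hy : Good U G₀ y) {p : Dual (ZMod 2) V} (hp : p ∈ An U y) :
    ∃ q ∈ An U r, phi U r y q = p := by
  have hp' : p ∈ An U (r + y) ⊔ An U r := by
    rw [(h.sup_eq_y hb hy).2]; exact Submodule.mem_sup_right hp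
  obtain ⟨s, hs, q, hq, rfl⟩ := Submodule.mem_sup.1 hp'
  exact ⟨q, hq, h.phi_eq hb hy hq hp (by rw [add_comm q, add_assoc, vadd_self, add_zero]; exact hs)⟩

omit hb
omit [Finite V] in
theorem pair_good {v z : V} (hp : Pair U G₀ v z) :
    Good U G₀ v ∧ Good U G₀ z ∧ v + z ≠ 0 := by
  obtain ⟨φ, -, hv, hz⟩ := hp.ex
  exact ⟨⟨hv.1, hp.inf ▸ inf_le_left⟩, ⟨hz.1, hp.inf ▸ inf_le_right⟩,
    fun e' => hp.ne (add_eq_zero'.1 e')⟩

omit [Finite V] in
theorem pair_swap {v z : V} (hp : Pair U G₀ v z) : Pair U G₀ z v :=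
  ⟨hp.ne.symm, by obtain ⟨φ, h1, h2, h3⟩ := hp.ex; exact ⟨φ, h1, h3, h2⟩, by
    rw [inf_comm]; exact hp.inf⟩

omit [Finite V] in
theorem pair_third {v z : V} (hp : Pair U G₀ v z) : Pair U G₀ v (v + z) := by
  obtain ⟨φ, hφ, hv, hz⟩ := hp.ex
  have hw := h.zadd φ hφ v hv z hz fun e' => hp.ne (add_eq_zero'.1 e')
  have hne : v ≠ v + z := fun e' => hz.1 (by simpa using e')
  obtain ⟨G₁, -, -, hG⟩ := h.core φ hφ
  refine ⟨hne, ⟨φ, hφ, hv, hw⟩, ?_⟩
  rw [hG v hv _ hw hne, ← hG v hv z hz hp.ne, hp.inf]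

include hb in
theorem phi_diff {v z : V} (hp : Pair U G₀ v z) {q : Dual (ZMod 2) V} (hq : q ∈ An U r) :
    phi U r (v + z) q + phi U r v q ∈ An U z := by
  obtain ⟨hv, hz, -⟩ := h.pair_good hp
  obtain ⟨-, hw, -⟩ := h.pair_good (h.pair_third hp)
  obtain ⟨hw1, hw2⟩ := h.phi_spec hb hw hq
  have hle := h.An_le_sup (h.ry_ne hb hv) hz.1 (by rw [add_assoc]; exact h.ry_ne hb hw)
  rw [add_assoc] at hle
  obtain ⟨α, hα, β, hβ, hab⟩ := Submodule.mem_sup.1 (hle hw2)
  obtain ⟨q', hq', p', hp', rfl⟩ :=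
    Submodule.mem_sup.1 (h.An_le_sup hb.r_ne hv.1 (h.ry_ne hb hv) hα)
  have hkey : q + q' = phi U r (v + z) q + p' + β := by
    have : q' + p' + β + (q + phi U r (v + z) q) = 0 := by rw [hab, vadd_self]
    rw [← add_eq_zero', ← this]
    abel
  have hzero : q + q' = 0 := by
    have hker : U r ⊔ G₀ ≤ LinearMap.ker (q + q') := by
      refine sup_le (fun u hu => mem_An.1 (add_mem hq hq') u hu) fun u hu => ?_
      rw [hkey, LinearMap.mem_ker, LinearMap.add_apply, LinearMap.add_apply,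
        mem_An.1 hw1 u (hw.2 hu), mem_An.1 hp' u (hv.2 hu), mem_An.1 hβ u (hz.2 hu)]
      simp
    rw [hb.top] at hker
    exact LinearMap.ext fun u => hker (x := u) trivial
  rw [h.phi_eq hb hv hq hp' (by rw [add_eq_zero'.1 hzero]; exact hα)]
  rw [hzero] at hkey
  rw [add_eq_zero'.1 hkey.symm]
  exact hβ

theorem add_mem_third {v z : V} (hp : Pair U G₀ v z) (hG : finrank (ZMod 2) G₀ + 1 = e)
    {a b : V} (ha : a ∈ U v) (ha' : a ∉ G₀) (hb' : b ∈ U z) (hb'' : b ∉ G₀) :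
    a + b ∈ U (v + z) ∧ a + b ∉ G₀ := by
  obtain ⟨hv, hz, hvz⟩ := h.pair_good hp
  obtain ⟨-, hw, -⟩ := h.pair_good (h.pair_third hp)
  refine ⟨?_, fun hmem => ha' ?_⟩
  · obtain ⟨u, hu, hu'⟩ : ∃ u ∈ U (v + z), u ∉ G₀ := by
      by_contra hc; push Not at hc
      have := Submodule.finrank_mono (show U (v + z) ≤ G₀ from hc)
      rw [h.dim _ hvz] at this
      omega
    obtain ⟨a', ha1, b', hb1, rfl⟩ := Submodule.mem_sup.1 (h.sum_le hv.1 hz.1 hvz hu)
    have ha2 : a' ∉ G₀ := fun hh => hu' <| by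
      refine add_mem hh ?_
      have hbw : b' ∈ U (v + z) := by
        have := sub_mem hu (hw.2 hh)
        rwa [add_sub_cancel_left] at this
      have h3 := (h.pair_third (h.pair_swap hp)).inf
      rw [add_comm z v] at h3
      rw [← h3]
      exact ⟨hb1, hbw⟩
    have hb2 : b' ∉ G₀ := fun hh => hu' <| by
      refine add_mem ?_ hh
      have haw : a' ∈ U (v + z) := by
        have := sub_mem hu (hw.2 hh)
        rwa [add_sub_cancel_right] at this
      rw [← (h.pair_third hp).inf]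
      exact ⟨ha1, haw⟩
    have e1 := add_mem_of_corank_one hv.2 (hG.trans (h.dim v hv.1).symm) ha1 ha2 ha ha'
    have e2 := add_mem_of_corank_one hz.2 (hG.trans (h.dim z hz.1).symm) hb1 hb2 hb' hb''
    have := add_mem hu (hw.2 (add_mem e1 e2))
    rwa [show a' + b' + (a' + a + (b' + b)) = a + b by
      rw [show a' + a + (b' + b) = a' + b' + (a + b) by abel, ← add_assoc, vadd_self, zero_add]]
      at this
  · have : a ∈ U z := by
      have := sub_mem (hz.2 hmem) hb'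
      rwa [add_sub_cancel_right] at this
    rw [← hp.inf]; exact ⟨ha, this⟩

include hb in
/-- The symmetry of the pairing. -/
theorem omega_symm {v z : V} (hp : Pair U G₀ v z) (hG : finrank (ZMod 2) G₀ + 1 = e)
    {a b : V} (ha : a ∈ U v) (ha' : a ∉ G₀) (hb' : b ∈ U z) (hb'' : b ∉ G₀)
    {q : Dual (ZMod 2) V} (hq : q ∈ An U r) : phi U r z q a = phi U r v q b := by
  obtain ⟨hv, hz, -⟩ := h.pair_good hp
  obtain ⟨-, hw, -⟩ := h.pair_good (h.pair_third hp)
  have hab := (h.add_mem_third hp hG ha ha' hb' hb'').1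
  have d1 := mem_An.1 (h.phi_diff hb hp hq) b hb'
  have d2 := mem_An.1 (h.phi_diff hb (h.pair_swap hp) hq) a ha
  rw [add_comm z v] at d2
  have d3 := mem_An.1 (h.phi_spec hb hw hq).1 (a + b) hab
  simp only [LinearMap.add_apply] at d1 d2
  rw [map_add] at d3
  exact add_eq_zero'.1 (by linear_combination d1 + d2 - d3)

include hb in
theorem omega_ne {v z : V} (hp : Pair U G₀ v z) {a : V} (ha : a ∈ U v) (ha' : a ∉ G₀) :
    ∃ q ∈ An U r, phi U r z q a = 1 := by
  obtain ⟨-, hz, -⟩ := h.pair_good hp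
  obtain ⟨p, hp1, hp2⟩ := exists_dual_one (U z) (v := a) fun hh =>
    ha' (hp.inf ▸ ⟨ha, hh⟩)
  obtain ⟨q, hq, rfl⟩ := h.phi_surj hb hz (mem_An.2 hp1)
  exact ⟨q, hq, hp2⟩

omit [Finite V] in
theorem exists_out {v : V} (hv : Good U G₀ v) (hG : finrank (ZMod 2) G₀ + 1 = e) :
    ∃ a ∈ U v, a ∉ G₀ := by
  by_contra hc; push Not at hc
  have heq : U v = G₀ := le_antisymm hc hv.2
  have := h.dim v hv.1
  rw [heq] at this
  omega

section TwoCase

variable (h2 : finrank (ZMod 2) V = e + 2)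
include hb h2

theorem An_r_four {q q₁ : Dual (ZMod 2) V} (hq : q ∈ An U r) (hq₁ : q₁ ∈ An U r) (hq0 : q ≠ 0)
    (hq10 : q₁ ≠ 0) (hne : q ≠ q₁) {s : Dual (ZMod 2) V} (hs : s ∈ An U r) :
    s = 0 ∨ s = q ∨ s = q₁ ∨ s = q + q₁ := by
  by_contra hc; push Not at hc
  have hsub : ({0, q, q₁, q + q₁, s} : Set (Dual (ZMod 2) V)) ⊆ An U r := by
    intro a ha
    simp only [Set.mem_insert_iff, Set.mem_singleton_iff] at ha
    rcases ha with rfl | rfl | rfl | rfl | rfl
    exacts [zero_mem _, hq, hq₁, add_mem hq hq₁, hs]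
  have hle := Set.ncard_le_ncard hsub (Set.toFinite _)
  rw [ncard_sub, h.An_dim hb.r_ne, h2, show e + 2 - e = 2 by omega] at hle
  have h5 : ({0, q, q₁, q + q₁, s} : Set (Dual (ZMod 2) V)).ncard = 5 := by
    rw [Set.ncard_insert_of_notMem, Set.ncard_insert_of_notMem, Set.ncard_insert_of_notMem,
      Set.ncard_pair] <;>
      simp only [Set.mem_insert_iff, Set.mem_singleton_iff, not_or, Ne]
    · exact fun e' => hc.2.2.2 e'.symm
    · exact ⟨fun e' => hq0 (by simpa using e'), fun e' => hc.2.2.1 e'.symm⟩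
    · exact ⟨hne, fun e' => hq10 (by simpa using e'), fun e' => hc.2.1 e'.symm⟩
    · exact ⟨Ne.symm hq0, Ne.symm hq10, fun e' => hne (add_eq_zero'.1 e'.symm),
        fun e' => hc.1 e'.symm⟩
  omega

theorem bit {x : V} (hx : x ∉ U r) {q : Dual (ZMod 2) V} (hq : q ∈ An U r) (hq0 : q ≠ 0)
    (hqx : q x = 0) :
    ∃ χ : Dual (ZMod 2) V, ∀ y, Good U G₀ y → phi U r y q x = χ y := by
  have hx0 : x ≠ 0 := fun e' => hx (e' ▸ zero_mem _)
  have hrx : r ∉ U x := fun hh => hx (h.symm x r hx0 hb.r_ne hh)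
  set H := U x ⊔ Submodule.span (ZMod 2) {r} with hH
  have hHdim : finrank (ZMod 2) H = e + 1 := by
    rw [hH, Submodule.finrank_sup_span_singleton hrx, h.dim x hx0]
  obtain ⟨v₁, hv₁⟩ : ∃ v₁, v₁ ∉ H := by
    by_contra hc; push Not at hc
    rw [show H = ⊤ from eq_top_iff.2 fun v _ => hc v, finrank_top] at hHdim
    omega
  obtain ⟨χ, hχH, hχ1⟩ := exists_dual_one H hv₁
  have hχ0 : χ ≠ 0 := fun e' => by simp [e'] at hχ1
  have hker : H = LinearMap.ker χ :=
    Submodule.eq_of_le_of_finrank_eq hχH (by have := finrank_ker_dual hχ0; omega)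
  refine ⟨χ, fun y hy => z2_ext _ _ ?_⟩
  rw [← LinearMap.mem_ker (f := χ), ← hker]
  obtain ⟨hy1, hy2⟩ := h.phi_spec hb hy hq
  constructor
  · intro h0
    by_contra hyH
    have hxy : x ∉ U y := fun hh =>
      hyH (Submodule.mem_sup_left (h.symm y x hy.1 hx0 hh))
    have hxs : x ∉ U (r + y) := fun hh => hyH <| by
      have := h.symm (r + y) x (h.ry_ne hb hy) hx0 hh
      have e1 := add_mem (Submodule.mem_sup_right (Submodule.mem_span_singleton_self r) :
        r ∈ H) (Submodule.mem_sup_left this)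
      rwa [← add_assoc, vadd_self, zero_add] at e1
    obtain ⟨q₁, hq1, hq1x⟩ := exists_dual_one (U r) hx
    have hq1' : q₁ ∈ An U r := mem_An.2 hq1
    have hq10 : q₁ ≠ 0 := fun e' => by simp [e'] at hq1x
    have hne : q ≠ q₁ := fun e' => by rw [e', hq1x] at hqx; exact one_ne_zero hqx
    obtain ⟨p, hp1, hp2⟩ := exists_dual_one (U y) hxy
    obtain ⟨q', hq', rfl⟩ := h.phi_surj hb hy (mem_An.2 hp1)
    have h1 : phi U r y q₁ x = 1 := by
      rcases h.An_r_four hb h2 hq hq1' hq0 hq10 hne hq' with rfl | rfl | rfl | rfl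
      · simp [h.phi_zero hb hy] at hp2
      · rw [h0] at hp2; exact absurd hp2 zero_ne_one
      · exact hp2
      · rw [h.phi_add hb hy hq hq1', LinearMap.add_apply, h0, zero_add] at hp2; exact hp2
    obtain ⟨ψ, hψ1, hψ2⟩ := exists_dual_one (U (r + y)) hxs
    have hψ : ψ ∈ An U (r + y) := mem_An.2 hψ1
    obtain ⟨s, hs, p', hp', rfl⟩ := Submodule.mem_sup.1 (h.An_le_sup hb.r_ne hy.1 (h.ry_ne hb hy) hψ)
    rw [← h.phi_eq hb hy hs hp' hψ, LinearMap.add_apply] at hψ2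
    have hz : (1 : ZMod 2) + 1 = 0 := rfl
    rcases h.An_r_four hb h2 hq hq1' hq0 hq10 hne hs with rfl | rfl | rfl | rfl
    · simp [h.phi_zero hb hy] at hψ2
    · rw [hqx, h0] at hψ2; simp at hψ2
    · rw [hq1x, h1, hz] at hψ2; exact zero_ne_one hψ2
    · rw [h.phi_add hb hy hq hq1', LinearMap.add_apply, LinearMap.add_apply, hqx, h0, hq1x, h1,
        zero_add, hz] at hψ2
      exact zero_ne_one hψ2
  · intro hyH
    obtain ⟨u, hu, c, hc, rfl⟩ := Submodule.mem_sup.1 hyH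
    rcases mem_span1.1 hc with rfl | rfl
    · simp only [add_zero] at *
      exact mem_An.1 hy1 x (h.symm x u hx0 hy.1 hu)
    · have := mem_An.1 hy2 x (by
        refine h.symm x _ hx0 (h.ry_ne hb hy) ?_
        rw [add_comm u c, ← add_assoc, vadd_self, zero_add]; exact hu)
      simpa [hqx] using this

theorem phi_additive {v z : V} (hp : Pair U G₀ v z) {q : Dual (ZMod 2) V} (hq : q ∈ An U r) :
    phi U r (v + z) q + phi U r v q + phi U r z q = 0 := by
  obtain ⟨hv, hz, -⟩ := h.pair_good hp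
  obtain ⟨-, hw, -⟩ := h.pair_good (h.pair_third hp)
  by_cases hq0 : q = 0
  · simp [hq0, h.phi_zero hb hv, h.phi_zero hb hz, h.phi_zero hb hw]
  set δ := phi U r (v + z) q + phi U r v q + phi U r z q with hδ
  have hout : ∀ x, x ∉ U r → q x = 0 → δ x = 0 := by
    intro x hx hqx
    obtain ⟨χ, hχ⟩ := h.bit hb h2 hx hq hq0 hqx
    simp only [hδ, LinearMap.add_apply, hχ _ hv, hχ _ hz, hχ _ hw]
    rw [← map_add, ← map_add, add_assoc, vadd_self, map_zero]
  have hkr : U r < LinearMap.ker q := by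
    refine lt_of_le_of_ne (fun u hu => mem_An.1 hq u hu) fun e' => ?_
    have h1 := finrank_ker_dual hq0
    rw [← e', h.dim r hb.r_ne] at h1
    omega
  obtain ⟨x₀, hx₀, hx₀'⟩ := SetLike.exists_of_lt hkr
  have hall : ∀ x, q x = 0 → δ x = 0 := by
    intro x hqx
    by_cases hx : x ∈ U r
    · have h1 := hout (x + x₀) (fun hh => hx₀' (by simpa using sub_mem hh hx))
        (by rw [map_add, hqx, LinearMap.mem_ker.1 hx₀, add_zero])
      rw [map_add, hout x₀ hx₀' hx₀, add_zero] at h1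
      exact h1
    · exact hout x hx hqx
  by_contra hne
  have hδq : δ = q := by
    obtain ⟨u, hu⟩ := exists_eq_one hq0
    obtain ⟨w, hw'⟩ := exists_eq_one hne
    have hqw : q w = 1 := z2_ne _ fun hh => by rw [hall w hh] at hw'; exact zero_ne_one hw'
    ext x
    rcases z2 (q x) with hx | hx
    · rw [hall x hx, hx]
    · have := hall (x + w) (by rw [map_add, hx, hqw]; rfl)
      rw [map_add, hw', add_eq_zero_iff_eq_neg, ZMod.neg_eq_self_mod_two] at this
      rw [this, hx]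
  have hkill : U r ⊔ G₀ ≤ LinearMap.ker q := by
    refine sup_le (fun u hu => mem_An.1 hq u hu) fun u hu => ?_
    rw [LinearMap.mem_ker, ← hδq, hδ, LinearMap.add_apply, LinearMap.add_apply,
      mem_An.1 (h.phi_spec hb hw hq).1 u (hw.2 hu), mem_An.1 (h.phi_spec hb hv hq).1 u (hv.2 hu),
      mem_An.1 (h.phi_spec hb hz hq).1 u (hz.2 hu)]
    simp
  rw [hb.top] at hkill
  exact hq0 (LinearMap.ext fun u => hkill (x := u) trivial)

theorem two_case {v z : V} (hp : Pair U G₀ v z) (hG : finrank (ZMod 2) G₀ + 1 = e) : False := by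
  obtain ⟨hv, hz, -⟩ := h.pair_good hp
  obtain ⟨-, hw, -⟩ := h.pair_good (h.pair_third hp)
  obtain ⟨φ, hφ, hvZ, hzZ⟩ := hp.ex
  obtain ⟨av, hav, hav'⟩ := h.phi_surj hb hv (mem_An.2 hvZ.2)
  obtain ⟨az, haz, haz'⟩ := h.phi_surj hb hz (mem_An.2 hzZ.2)
  obtain ⟨a, ha, ha'⟩ := h.exists_out hv hG
  obtain ⟨b, hb1, hb2⟩ := h.exists_out hz hG
  obtain ⟨q₀, hq₀, hq₀'⟩ := h.omega_ne hb hp ha ha'
  have h1 : phi U r z az a = 0 := by rw [haz']; exact hvZ.2 a ha
  have h3 : phi U r z av a = 0 := by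
    rw [h.omega_symm hb hp hG ha ha' hb1 hb2 hav, hav']; exact hzZ.2 b hb1
  have hav0 : av ≠ 0 := fun e' => hφ (by rw [← hav', e', h.phi_zero hb hv])
  have haz0 : az ≠ 0 := fun e' => hφ (by rw [← haz', e', h.phi_zero hb hz])
  by_cases heq : av = az
  · refine hav0 (h.phi_inj hb hw hav ?_)
    have := h.phi_additive hb h2 hp hav
    rw [hav', heq, haz', add_assoc, vadd_self, add_zero] at this
    rw [heq]; exact this
  · rcases h.An_r_four hb h2 hav haz hav0 haz0 heq hq₀ with rfl | rfl | rfl | rfl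
    · simp [h.phi_zero hb hz] at hq₀'
    · rw [h3] at hq₀'; exact zero_ne_one hq₀'
    · rw [h1] at hq₀'; exact zero_ne_one hq₀'
    · rw [h.phi_add hb hz hav haz, LinearMap.add_apply, h3, h1, add_zero] at hq₀'
      exact zero_ne_one hq₀'

end TwoCase

theorem contradiction : False := by
  classical
  have hn : Nontrivial V := by
    rw [← Finite.one_lt_card_iff_nontrivial, card_pow]
    exact Nat.one_lt_two_pow (by have := h.le_sub; omega)
  obtain ⟨x₁, hx₁⟩ := exists_ne (0 : V)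
  obtain ⟨φ, -, hφ1⟩ := exists_dual_one (⊥ : Submodule (ZMod 2) V) (v := x₁) (by simpa using hx₁)
  have hφ : φ ≠ 0 := fun e' => by simp [e'] at hφ1
  have hc2 := h.le_sub
  have hcard : 1 < (zset U φ).ncard := by
    rw [h.zcard φ hφ]
    have : 2 ^ 2 ≤ 2 ^ (finrank (ZMod 2) V - e) := Nat.pow_le_pow_right (by norm_num) (by omega)
    omega
  obtain ⟨v, z₀, hv, hz₀, hne⟩ := (Set.one_lt_ncard_iff (Set.toFinite _)).1 hcard
  obtain ⟨G₀, hG, -, hinf⟩ := h.core φ hφ
  have hp₀ : Pair U G₀ v z₀ := ⟨hne, ⟨φ, hφ, hv, hz₀⟩, hinf v hv z₀ hz₀ hne⟩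
  obtain ⟨r, hr0, hr⟩ := h.exists_r G₀ hG
  have hb : Base U G₀ r := ⟨hr0, hr⟩
  rcases (show finrank (ZMod 2) V = e + 2 ∨ e + 3 ≤ finrank (ZMod 2) V by omega) with h2 | h3
  · exact h.two_case hb h2 hp₀ hG
  -- the points sharing a hyperplane with `v`
  let S : Set V := {z | z = 0 ∨ ∃ ψ, ψ ≠ 0 ∧ v ∈ zset U ψ ∧ z ∈ zset U ψ}
  have hsupdim : ∀ z ψ, ψ ≠ 0 → v ∈ zset U ψ → z ∈ zset U ψ →
      finrank (ZMod 2) (U v ⊔ U z : Submodule (ZMod 2) V) ≤ e + 1 := by
    intro z ψ hψ hvψ hzψ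
    by_cases hzv : v = z
    · rw [← hzv, sup_idem, h.dim v hv.1]; omega
    · obtain ⟨G₁, hG₁, -, hinf₁⟩ := h.core ψ hψ
      have := Submodule.finrank_sup_add_finrank_inf_eq (U v) (U z)
      rw [hinf₁ v hvψ z hzψ hzv, h.dim v hv.1, h.dim z hzψ.1] at this
      omega
  have hcommon : ∀ z z', z ∈ S → z' ∈ S → z ≠ 0 → z' ≠ 0 →
      ∃ ψ, ψ ≠ 0 ∧ v ∈ zset U ψ ∧ z ∈ zset U ψ ∧ z' ∈ zset U ψ := by
    intro z z' hz hz' hz0 hz0'
    obtain ⟨ψ, hψ, hvψ, hzψ⟩ := hz.resolve_left hz0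
    obtain ⟨ψ', hψ', hvψ', hzψ'⟩ := hz'.resolve_left hz0'
    set K := (U v ⊔ U z).dualAnnihilator with hK
    set K' := (U v ⊔ U z').dualAnnihilator with hK'
    have d1 := Subspace.finrank_add_finrank_dualAnnihilator_eq (U v ⊔ U z)
    have d2 := Subspace.finrank_add_finrank_dualAnnihilator_eq (U v ⊔ U z')
    have s1 := hsupdim z ψ hψ hvψ hzψ
    have s2 := hsupdim z' ψ' hψ' hvψ' hzψ'
    have d3 := Submodule.finrank_sup_add_finrank_inf_eq K K'
    have d4 : finrank (ZMod 2) (K ⊔ K' : Submodule (ZMod 2) _) ≤ finrank (ZMod 2) (An U v) :=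
      Submodule.finrank_mono (sup_le (Submodule.dualAnnihilator_anti le_sup_left)
        (Submodule.dualAnnihilator_anti le_sup_left))
    rw [h.An_dim hv.1] at d4
    rw [← hK] at d1
    rw [← hK'] at d2
    obtain ⟨χ, hχ, hχ0⟩ := (K ⊓ K').exists_mem_ne_zero_of_ne_bot fun hbot => by
      rw [hbot, finrank_bot] at d3; omega
    refine ⟨χ, hχ0, ⟨hv.1, fun u hu => ?_⟩, ⟨hz0, fun u hu => ?_⟩, ⟨hz0', fun u hu => ?_⟩⟩
    · exact (Submodule.mem_dualAnnihilator _).1 hχ.1 u (Submodule.mem_sup_left hu)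
    · exact (Submodule.mem_dualAnnihilator _).1 hχ.1 u (Submodule.mem_sup_right hu)
    · exact (Submodule.mem_dualAnnihilator _).1 hχ.2 u (Submodule.mem_sup_right hu)
  let D : Submodule (ZMod 2) V :=
    { carrier := S
      zero_mem' := Or.inl rfl
      add_mem' := by
        intro a c ha hc
        by_cases ha0 : a = 0
        · rw [ha0, zero_add]; exact hc
        by_cases hc0 : c = 0
        · rw [hc0, add_zero]; exact ha
        by_cases hac : a + c = 0
        · exact Or.inl hac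
        obtain ⟨χ, hχ, h1, h2', h3'⟩ := hcommon a c ha hc ha0 hc0
        exact Or.inr ⟨χ, hχ, h1, h.zadd χ hχ a h2' c h3' hac⟩
      smul_mem' := by
        intro t a ha
        rcases z2 t with rfl | rfl
        · exact Or.inl (zero_smul _ _)
        · rw [one_smul]; exact ha }
  have hz₀S : z₀ ∈ S := Or.inr ⟨φ, hφ, hv, hz₀⟩
  have hvS : v ∈ S := Or.inr ⟨φ, hφ, hv, hv⟩
  have hvinf : ∀ z ∈ S, z ≠ 0 → z ≠ v → U v ⊓ U z = G₀ := by
    intro z hz hz0 hzv
    obtain ⟨χ, hχ, h1, h2', h3'⟩ := hcommon z z₀ hz hz₀S hz0 hz₀.1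
    obtain ⟨G₁, -, -, hinf₁⟩ := h.core χ hχ
    rw [hinf₁ v h1 z h2' hzv.symm, ← hinf₁ v h1 z₀ h3' hne]
    exact hp₀.inf
  have hpair : ∀ a c : D, a ≠ 0 → c ≠ 0 → a ≠ c → Pair U G₀ (a : V) c := by
    intro a c ha hc hac
    have ha0 : (a : V) ≠ 0 := fun e' => ha (Subtype.ext e')
    have hc0 : (c : V) ≠ 0 := fun e' => hc (Subtype.ext e')
    have hac' : (a : V) ≠ c := fun e' => hac (Subtype.ext e')
    obtain ⟨χ, hχ, h1, h2', h3'⟩ := hcommon a c a.2 c.2 ha0 hc0
    obtain ⟨G₁, -, -, hinf₁⟩ := h.core χ hχ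
    refine ⟨hac', ⟨χ, hχ, h2', h3'⟩, ?_⟩
    rw [hinf₁ a h2' c h3' hac']
    by_cases hav : (a : V) = v
    · rw [← hinf₁ v h1 c h3' (hav ▸ hac'), hvinf c c.2 hc0 (hav ▸ hac').symm]
    · rw [← hinf₁ v h1 a h2' (Ne.symm hav), hvinf a a.2 ha0 hav]
  have hgood : ∀ a : D, a ≠ 0 → Good U G₀ (a : V) := by
    intro a ha
    have ha0 : (a : V) ≠ 0 := fun e' => ha (Subtype.ext e')
    refine ⟨ha0, ?_⟩
    by_cases hav : (a : V) = v
    · rw [hav, ← hp₀.inf]; exact inf_le_left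
    · rw [← hvinf a a.2 ha0 hav]; exact inf_le_right
  let g : D → V := fun a => if ha : a ≠ 0 then (h.exists_out (hgood a ha) hG).choose else 0
  have hg : ∀ a : D, a ≠ 0 → g a ∈ U (a : V) ∧ g a ∉ G₀ := by
    intro a ha
    simp only [g, dif_pos ha]
    exact (h.exists_out (hgood a ha) hG).choose_spec
  have hg0 : g 0 = 0 := by simp [g]
  let ℓ₀ : D → V ⧸ G₀ := fun a => Submodule.Quotient.mk (g a)
  have hℓ : ∀ a c : D, ℓ₀ (a + c) = ℓ₀ a + ℓ₀ c := by
    intro a c
    by_cases ha : a = 0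
    · simp [ℓ₀, ha, hg0]
    by_cases hc : c = 0
    · simp [ℓ₀, hc, hg0]
    by_cases hac : a = c
    · subst hac; simp [ℓ₀, vadd_self, hg0]
    have hac0 : a + c ≠ 0 := fun e' => hac (add_eq_zero'.1 e')
    have hp := hpair a c ha hc hac
    obtain ⟨h4, h5⟩ := h.add_mem_third hp hG (hg a ha).1 (hg a ha).2 (hg c hc).1 (hg c hc).2
    have hgac := hg (a + c) hac0
    have hgw := hgood (a + c) hac0
    simp only [ℓ₀]
    rw [← Submodule.Quotient.mk_add, Submodule.Quotient.eq, ZModModule.sub_eq_add]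
    exact add_mem_of_corank_one hgw.2 (hG.trans (h.dim _ hgw.1).symm) hgac.1 hgac.2
      (by simpa using h4) h5
  let ℓ : D →ₗ[ZMod 2] V ⧸ G₀ := (AddMonoidHom.mk' ℓ₀ hℓ).toZModLinearMap 2
  have hℓinj : Function.Injective ℓ := by
    rw [injective_iff_map_eq_zero]
    intro a ha
    by_contra ha0
    exact (hg a ha0).2 ((Submodule.Quotient.mk_eq_zero _).1 ha)
  have hDle : finrank (ZMod 2) D ≤ finrank (ZMod 2) V - e + 1 := by
    have := LinearMap.finrank_le_finrank_of_injective hℓinj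
    have := G₀.finrank_quotient_add_finrank
    omega
  have hDge : finrank (ZMod 2) V - e + 1 ≤ finrank (ZMod 2) D := by
    by_contra hlt
    have hcardD : (D : Set V).ncard ≤ 2 ^ (finrank (ZMod 2) V - e) := by
      rw [ncard_sub]; exact Nat.pow_le_pow_right (by norm_num) (by omega)
    have hsub : ∀ ψ, ψ ≠ 0 → v ∈ zset U ψ → z₀ ∈ zset U ψ := by
      intro ψ hψ hvψ
      have h1 : zset U ψ ⊆ (D : Set V) \ {0} := fun z hz => ⟨Or.inr ⟨ψ, hψ, hvψ, hz⟩, hz.1⟩
      have h2' : ((D : Set V) \ {0}).ncard ≤ (zset U ψ).ncard := by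
        rw [ncard_diff_zero, h.zcard ψ hψ]
        rw [ncard_sub] at hcardD
        omega
      rw [Set.eq_of_subset_of_ncard_le h1 h2' (Set.toFinite _)]
      exact ⟨hz₀S, hz₀.1⟩
    have hle : U z₀ ≤ U v := by
      intro u hu
      by_contra hu'
      obtain ⟨ψ, h1, h2'⟩ := exists_dual_one _ hu'
      have := (hsub ψ (fun e' => by simp [e'] at h2') ⟨hv.1, h1⟩).2 u hu
      rw [this] at h2'; exact zero_ne_one h2'
    have := hp₀.inf
    rw [inf_eq_right.2 hle] at this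
    have h6 := h.dim z₀ hz₀.1
    rw [this] at h6
    omega
  -- the alternating map
  let W := An U r
  have hgoodphi : ∀ (c : D) (q : W), phi U r (c : V) q.1 ∈ An U (c : V) ∨ phi U r (c : V) q.1 = 0 := by
    intro c q
    by_cases hc : c = 0
    · right; simp [phi, hc]
    · exact Or.inl (h.phi_spec hb (hgood c hc) q.2).1
  have hphiG : ∀ (c : D) (q : W) (u : V), u ∈ G₀ → phi U r (c : V) q.1 u = 0 := by
    intro c q u hu
    by_cases hc : c = 0
    · simp [phi, hc]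
    · exact mem_An.1 (h.phi_spec hb (hgood c hc) q.2).1 u ((hgood c hc).2 hu)
  have hgadd : ∀ (c : D) (q : W) (a a' : D),
      phi U r (c : V) q.1 (g (a + a')) = phi U r (c : V) q.1 (g a) + phi U r (c : V) q.1 (g a') := by
    intro c q a a'
    have h1 := hℓ a a'
    simp only [ℓ₀] at h1
    rw [← Submodule.Quotient.mk_add, Submodule.Quotient.eq] at h1
    have := hphiG c q _ h1
    rwa [map_sub, map_add, sub_eq_zero] at this
  have hsymA : ∀ (a c : D) (q : W),
      phi U r (c : V) q.1 (g a) = phi U r (a : V) q.1 (g c) := by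
    intro a c q
    by_cases ha : a = 0
    · simp [ha, hg0, phi]
    by_cases hc : c = 0
    · simp [hc, hg0, phi]
    by_cases hac : a = c
    · rw [hac]
    exact h.omega_symm hb (hpair a c ha hc hac) hG (hg a ha).1 (hg a ha).2 (hg c hc).1 (hg c hc).2 q.2
  let A₂ : D → D → Dual (ZMod 2) W := fun a c =>
    (AddMonoidHom.mk' (fun q : W => phi U r (c : V) q.1 (g a)) fun q q' => by
      by_cases hc : c = 0
      · simp [phi, hc]
      · rw [Submodule.coe_add, h.phi_add hb (hgood c hc) q.2 q'.2, LinearMap.add_apply]).toZModLinearMap 2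
  have hA₂ : ∀ a c q, A₂ a c q = phi U r (c : V) q.1 (g a) := fun _ _ _ => rfl
  let A₁ : D → D →ₗ[ZMod 2] Dual (ZMod 2) W := fun a =>
    (AddMonoidHom.mk' (A₂ a) fun c c' => LinearMap.ext fun q => by
      rw [LinearMap.add_apply, hA₂, hA₂, hA₂, hsymA a (c + c'), hgadd, hsymA a c, hsymA a c']).toZModLinearMap 2
  let A : D →ₗ[ZMod 2] D →ₗ[ZMod 2] Dual (ZMod 2) W :=
    (AddMonoidHom.mk' A₁ fun a a' => LinearMap.ext fun c => LinearMap.ext fun q => by
      exact hgadd c q a a').toZModLinearMap 2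
  refine no_rect A ?_ (by omega) (fun a => LinearMap.ext fun q => ?_) fun a ha c hac => ?_
  · rw [Subspace.dual_finrank_eq, show finrank (ZMod 2) W = _ from h.An_dim hr0]
    omega
  · change phi U r (a : V) q.1 (g a) = 0
    by_cases ha : a = 0
    · simp [ha, phi]
    · exact mem_An.1 (h.phi_spec hb (hgood a ha) q.2).1 _ (hg a ha).1
  · by_contra hc
    push Not at hc
    obtain ⟨q, hq, hq'⟩ := h.omega_ne hb (hpair a c ha hc.1 (Ne.symm hc.2)) (hg a ha).1 (hg a ha).2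
    have : A a c ⟨q, hq⟩ = 0 := by rw [hac]; rfl
    exact one_ne_zero (hq'.symm.trans this)

end Geo

end Cfsg.Agent.CamKan
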