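import Cfsg.Agent.Lib.CamKan.Top
import Cfsg.Agent.Lib.CamKan.CW

/-!
# No hyperplane subspaces: the alternating trilinear form case

If every `U` is a hyperplane of the quotient, one obtains a symmetric alternating trilinear
form with minimal radicals, which does not exist.
-/

set_option autoImplicit false

namespace Cfsg.Agent.CamKan

open Module

namespace Duo

variable {G : Type*} [Group G] {N N' : Type*} [AddCommGroup N] [Module (ZMod 2) N]
  [AddCommGroup N'] [Module (ZMod 2) N']

/-- `g` is the functional attached to the pair `x, y`. -/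
def IsPole (D : Duo G N N') (x y : N) (g : N') : Prop :=
  x ≠ 0 ∧ y ∉ Submodule.span (ZMod 2) {x} ∧ g ≠ 0 ∧ D.b x g = 0 ∧
    ∀ t, D.ρ t x = x → D.σ t g = g → D.ρ t y + y ∈ Submodule.span (ZMod 2) {x}

variable {D : Duo G N N'}

theorem IsPole.map {x y : N} {g : N'} (h : D.IsPole x y g) (k : G) :
    D.IsPole (D.ρ k x) (D.ρ k y) (D.σ k g) := by
  obtain ⟨h1, h2, h3, h4, h5⟩ := h
  refine ⟨by simp [h1], ?_, by simp [h3], by rw [D.b_smul]; exact h4, fun t ht ht' => ?_⟩
  · simp only [mem_span1] at h2 ⊢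
    simpa [(D.ρ k).injective.eq_iff] using h2
  · have := h5 (k⁻¹ * t * k) (by rw [mul_apply', mul_apply', ht, inv_apply'])
      (by rw [mul_apply', mul_apply', ht', inv_apply'])
    rw [mem_span1] at this ⊢
    have e : D.ρ k (D.ρ (k⁻¹ * t * k) y + y) = D.ρ t (D.ρ k y) + D.ρ k y := by
      rw [map_add, mul_apply', mul_apply', apply_inv']
    rcases this with hh | hh <;> rw [hh] at e
    · left; simpa using e.symm
    · right; exact e.symm

variable [Finite N] [Finite G]

namespace Top

/-- The hypothesis that all `U` are hyperplanes. -/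
def Hyp (_ : D.Top) : Prop :=
  ∀ x : N, x ≠ 0 → par (D.quot x).ρ + 2 = finrank (ZMod 2) N

variable {h : D.Top} (hp : h.Hyp)
include hp

theorem pole_iff {x y : N} {g : N'} (hx : x ≠ 0) (hy : y ∉ Submodule.span (ZMod 2) {x})
    (hg : g ≠ 0) (hxg : D.b x g = 0) :
    D.IsPole x y g ↔
      Submodule.Quotient.mk y ∈ (D.quot x).Z ⟨g, mem_ann_span.2 hxg⟩ := by
  haveI := D.finite_right
  have hA := h.quot_ant hx
  have hy' : (Submodule.Quotient.mk y : N ⧸ Submodule.span (ZMod 2) {x}) ≠ 0 := by
    rwa [Ne, Submodule.Quotient.mk_eq_zero]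
  have hg' : (⟨g, mem_ann_span.2 hxg⟩ : D.ann (Submodule.span (ZMod 2) {x})) ≠ 0 :=
    fun e => hg (congrArg Subtype.val e)
  constructor
  · intro hP
    refine hA.fixed_mem_Z hg' (T := stab (D.quot x).σ _) (fun u hu => hA.flag_orb hu) hy'
      fun t ht => ?_
    have := hP.2.2.2.2 t.1 t.2 (congrArg Subtype.val ht)
    change (D.quot x).ρ t _ = _
    rw [quot_ρ_mk, Submodule.Quotient.eq, ZModModule.sub_eq_add]
    exact this
  · intro hZ
    refine ⟨hx, hy, hg, hxg, fun t ht ht' => ?_⟩
    have hmem := hA.Z_invariant (g := ⟨t, ht⟩) (show (⟨t, ht⟩ : stab D.ρ x) ∈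
      stab (D.quot x).σ ⟨g, mem_ann_span.2 hxg⟩ from Subtype.ext ht') hZ
    have hc := hA.Z_card hg'
    have h1 := finrank_quot hx
    have h2 := hp x hx
    rw [show finrank (ZMod 2) (N ⧸ Submodule.span (ZMod 2) {x}) - par (D.quot x).ρ = 1 by omega]
      at hc
    obtain ⟨a, ha⟩ := Set.ncard_eq_one.1 hc
    rw [ha] at hmem hZ
    have := hmem.trans hZ.symm
    rw [quot_ρ_mk, Submodule.Quotient.eq, ZModModule.sub_eq_add] at this
    exact this

theorem exists_pole {x y : N} (hx : x ≠ 0) (hy : y ∉ Submodule.span (ZMod 2) {x}) :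
    ∃ g, D.IsPole x y g := by
  have hy' : (Submodule.Quotient.mk y : N ⧸ Submodule.span (ZMod 2) {x}) ≠ 0 := by
    rwa [Ne, Submodule.Quotient.mk_eq_zero]
  obtain ⟨f, hf, hk⟩ := (h.quot_ant hx).exists_U_le hy'
  exact ⟨f.1, (h.pole_iff (hp := hp) hx hy (fun e => hf (Subtype.ext e)) (mem_ann_span.1 f.2)).2
    ⟨hy', hk⟩⟩

theorem pole_ker {x y : N} {g : N'} (hP : D.IsPole x y g) (w : N) :
    D.b w g = 0 ↔ Submodule.Quotient.mk w ∈
      U (D.quot x).ρ (Submodule.Quotient.mk y) := by
  obtain ⟨hx, hy, hg, hxg, -⟩ := id hP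
  have hZ := (h.pole_iff (hp := hp) hx hy hg hxg).1 hP
  set g' : D.ann (Submodule.span (ZMod 2) {x}) := ⟨g, mem_ann_span.2 hxg⟩
  have hg' : g' ≠ 0 := fun e => hg (congrArg Subtype.val e)
  have he : U (D.quot x).ρ (Submodule.Quotient.mk y) = LinearMap.ker ((D.quot x).b.flip g') := by
    refine Submodule.eq_of_le_of_finrank_eq (fun u hu => hZ.2 u hu) ?_
    rw [(h.quot_ant hx).dim_U hZ.1]
    have := finrank_ker_dual (φ := (D.quot x).b.flip g') ((D.quot x).flip_ne_zero hg')
    have := finrank_quot hx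
    have := hp x hx
    omega
  rw [he]
  rfl

theorem pole_unique {x y : N} {g g' : N'} (hP : D.IsPole x y g) (hP' : D.IsPole x y g') :
    g = g' := by
  have hz : ∀ v, D.b v g = D.b v g' := fun v =>
    z2_ext _ _ ((h.pole_ker (hp := hp) hP v).trans (h.pole_ker (hp := hp) hP' v).symm)
  exact D.flip_injective (LinearMap.ext hz)

theorem pole_self {x y : N} {g : N'} (hP : D.IsPole x y g) : D.b y g = 0 :=
  (h.pole_ker (hp := hp) hP y).2 ((h.quot_ant hP.1).self_mem (by
    rw [Ne, Submodule.Quotient.mk_eq_zero]; exact hP.2.1))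

theorem pole_pair {x y w : N} {g g' : N'} (hP : D.IsPole x y g) (hP' : D.IsPole x w g')
    (h0 : D.b w g = 0) : D.b y g' = 0 := by
  rw [h.pole_ker (hp := hp) hP'] at *
  rw [h.pole_ker (hp := hp) hP] at h0
  exact (h.quot_ant hP.1).U_symm (by rw [Ne, Submodule.Quotient.mk_eq_zero]; exact hP.2.1)
    (by rw [Ne, Submodule.Quotient.mk_eq_zero]; exact hP'.2.1) h0

theorem pole_shift {x y : N} {g : N'} (hP : D.IsPole x y g) : D.IsPole x (y + x) g := by
  obtain ⟨hx, hy, hg, hxg, h5⟩ := hP
  refine ⟨hx, fun hh => hy ?_, hg, hxg, fun t ht ht' => ?_⟩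
  · simpa using sub_mem hh (Submodule.mem_span_singleton_self x)
  · have := h5 t ht ht'
    rw [map_add, ht, add_add_add_comm, vadd_self, add_zero]
    exact this

omit hp in
theorem not_span_symm {x y : N} (hx : x ≠ 0) (hy : y ∉ Submodule.span (ZMod 2) {x}) :
    y ≠ 0 ∧ x ∉ Submodule.span (ZMod 2) {y} := by
  rw [mem_span1, not_or] at hy
  exact ⟨hy.1, by simp [mem_span1, hx, Ne.symm hy.2]⟩

/-- The functional of a pair is symmetric. -/
theorem pole_symm {x y : N} {g : N'} (hP : D.IsPole x y g) : D.IsPole y x g := by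
  classical
  haveI := D.finite_right
  obtain ⟨hx, hy, hg, hxg, hfix⟩ := id hP
  obtain ⟨hy0, hxy⟩ := not_span_symm hx hy
  obtain ⟨g', hP'⟩ := h.exists_pole (hp := hp) hy0 hxy
  by_contra hne
  have hgg : g' ≠ g := fun e => hne (e ▸ hP')
  -- the same then holds for every pair
  have hall : ∀ a c t t', D.IsPole a c t → D.IsPole c a t' → t ≠ t' := by
    intro a c t t' h1 h2 e
    obtain ⟨k, hk⟩ := h.trans a x h1.1 hx
    obtain ⟨j, hj, hjc⟩ := h.trans2 x (D.ρ k c) y (hk ▸ (h1.map k).2.1) hy
    have e1 : D.IsPole x y (D.σ (j * k) t) := by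
      have := h1.map (j * k)
      rwa [mul_apply' D.ρ j k a, hk, (mem_stab _).1 hj, mul_apply' D.ρ j k c, hjc] at this
    have e2 : D.IsPole y x (D.σ (j * k) t') := by
      have := h2.map (j * k)
      rwa [mul_apply' D.ρ j k a, hk, (mem_stab _).1 hj, mul_apply' D.ρ j k c, hjc] at this
    exact hgg (by rw [h.pole_unique (hp := hp) hP' e2, h.pole_unique (hp := hp) hP e1, e])
  -- a 2-group transitive off the hyperplane of `g`
  obtain ⟨v₀, hv₀⟩ := D.exists_one hg
  obtain ⟨T, hT, -, hTo⟩ := exists_two_trans (ρ := D.ρ) (stab D.σ g ⊓ stab D.ρ x) v₀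
    (k := finrank (ZMod 2) N - 1)
    (by rw [h.flag2 hx hg hxg hv₀]; exact ncard_one (φ := D.b.flip g) (D.flip_ne_zero hg))
  rw [h.flag2 hx hg hxg hv₀] at hTo
  have hTorb : ∀ u, D.b u g = 1 → orb D.ρ T u = {w | D.b w g = 1} := fun u hu =>
    (orb_eq_of_mem (show u ∈ orb D.ρ T v₀ by rw [hTo]; exact hu)).trans hTo
  have hTg : ∀ t ∈ T, D.σ t g = g := fun t ht => (hT ht).1
  have hTx : ∀ t ∈ T, D.ρ t x = x := fun t ht => (hT ht).2
  -- some element of it moves `y`
  obtain ⟨t₀, ht₀, hmove⟩ : ∃ t ∈ T, D.ρ t y ≠ y := by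
    by_contra hc; push Not at hc
    have hTg' : ∀ t ∈ T, D.σ t g' = g' := fun t ht => by
      refine h.pole_unique (hp := hp) ?_ hP'
      have := hP'.map t
      rwa [hc t ht, hTx t ht] at this
    have hd : ∀ u, D.b u g = 1 → D.b u g' = D.b v₀ g' := by
      intro u hu
      obtain ⟨t, ht, rfl⟩ : u ∈ orb D.ρ T v₀ := by rw [hTo]; exact hu
      exact D.b_stab (hTg' t ht) v₀
    apply hgg
    refine D.flip_injective (LinearMap.ext fun u => ?_)
    change D.b u g' = D.b u g
    have hker : ∀ u, D.b u g = 0 → D.b u g' = 0 := fun u hu => by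
      have h1 := hd (u + v₀) (by simp [hu, hv₀])
      simpa using h1
    rcases z2 (D.b v₀ g') with h0 | h0
    · obtain ⟨z, hz⟩ := D.exists_one hP'.2.2.1
      rcases z2 (D.b z g) with h1 | h1
      · simp [hker z h1] at hz
      · rw [hd z h1, h0] at hz; exact absurd hz zero_ne_one
    · rcases z2 (D.b u g) with h1 | h1
      · rw [hker u h1, h1]
      · rw [hd u h1, h0, h1]
  have hty : D.ρ t₀ y = y + x := by
    rcases mem_span1.1 (hfix t₀ (hTx t₀ ht₀) (hTg t₀ ht₀)) with e | e
    · exact absurd (add_eq_zero'.1 e) hmove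
    · rw [← e, add_comm, add_assoc, vadd_self, add_zero]
  -- the set of points whose pole with `x` is `g` has two elements
  letI := Fintype.ofFinite N
  letI := Fintype.ofFinite N'
  set I : N' → Finset N := fun u => Finset.univ.filter fun a => D.IsPole a x u with hI
  set Y : Finset N := Finset.univ \ {0, x} with hY
  set A : Finset N' := Finset.univ.filter fun u => u ≠ 0 ∧ D.b x u = 0 with hA'
  have hcardY : Y.card + 2 = 2 ^ finrank (ZMod 2) N := by
    rw [hY, Finset.card_sdiff_of_subset (Finset.subset_univ _), Finset.card_pair hx.symm,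
      Finset.card_univ, ← Nat.card_eq_fintype_card, card_pow]
    have : 2 ≤ 2 ^ finrank (ZMod 2) N :=
      le_self_pow₀ one_le_two (by have := h.three_le; omega) |>.trans' le_rfl
    omega
  have hcardA : A.card + 1 = 2 ^ (finrank (ZMod 2) N - 1) := by
    have he : (A : Set N') = (D.ann (Submodule.span (ZMod 2) {x}) : Set N') \ {0} := by
      ext u
      have e : u ∈ (D.ann (Submodule.span (ZMod 2) {x}) : Set N') ↔ D.b x u = 0 := mem_ann_span
      rw [Set.mem_diff, e]
      simp [hA', and_comm]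
    have h1 : A.card = 2 ^ finrank (ZMod 2) (D.ann (Submodule.span (ZMod 2) {x})) - 1 := by
      rw [← Set.ncard_coe_finset, he, ncard_diff_zero]
    have h2 := (D.quot x).finrank_eq
    have h3 := finrank_quot hx
    rw [h1, h2, show finrank (ZMod 2) N - 1 =
      finrank (ZMod 2) (N ⧸ Submodule.span (ZMod 2) {x}) by omega]
    exact Nat.sub_add_cancel Nat.one_le_two_pow
  have hmaps : ∀ a ∈ Y, ∃ u ∈ A, D.IsPole a x u := by
    intro a ha
    simp only [hY, Finset.mem_sdiff, Finset.mem_univ, Finset.mem_insert, Finset.mem_singleton,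
      true_and, not_or] at ha
    obtain ⟨u, hu⟩ := h.exists_pole (hp := hp) ha.1 (y := x) (by simp [mem_span1, hx, Ne.symm ha.2])
    exact ⟨u, by simp [hA', hu.2.2.1, h.pole_self (hp := hp) hu], hu⟩
  choose! F hF hFP using hmaps
  have hfib : ∀ u ∈ A, (Y.filter fun a => F a = u) = I u := by
    intro u hu
    ext a
    simp only [Finset.mem_filter, hI, Finset.mem_univ, true_and]
    refine ⟨fun ha => ha.2 ▸ hFP a ha.1, fun ha => ?_⟩
    have haY : a ∈ Y := by
      have h2 := ha.2.1
      rw [mem_span1, not_or] at h2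
      simp [hY, ha.1, Ne.symm h2.2]
    exact ⟨haY, h.pole_unique (hp := hp) (hFP a haY) ha⟩
  have hgA : g ∈ A := by simp [hA', hg, hxg]
  have hconst : ∀ u ∈ A, (I u).card = (I g).card := by
    intro u hu
    simp only [hA', Finset.mem_filter, Finset.mem_univ, true_and] at hu
    obtain ⟨k, hk, hku⟩ := h.stab_trans hx hg hu.1 (hxg.trans hu.2.symm)
    symm
    refine Finset.card_bij' (fun a _ => D.ρ k a) (fun a _ => D.ρ k⁻¹ a) ?_ ?_
      (fun a _ => inv_apply' D.ρ k a) (fun a _ => apply_inv' D.ρ k a)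
    · intro a ha
      simp only [hI, Finset.mem_filter, Finset.mem_univ, true_and] at ha ⊢
      have := ha.map k
      rwa [(mem_stab _).1 hk, hku] at this
    · intro a ha
      simp only [hI, Finset.mem_filter, Finset.mem_univ, true_and] at ha ⊢
      have := ha.map k⁻¹
      rw [← hku, inv_apply'] at this
      rwa [(mem_stab _).1 ((stab D.ρ x).inv_mem hk)] at this
  have hcount : Y.card = A.card * (I g).card := by
    rw [Finset.card_eq_sum_card_fiberwise (f := F) (t := A) fun a ha => hF a ha,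
      Finset.sum_congr rfl fun u hu => by rw [hfib u hu, hconst u hu], Finset.sum_const,
      smul_eq_mul]
  have hI2 : (I g).card = 2 := by
    rw [show finrank (ZMod 2) N = (finrank (ZMod 2) N - 1) + 1 by have := h.three_le; omega,
      pow_succ, ← hcardA, hcount] at hcardY
    have hA0 : 0 < A.card := Finset.card_pos.2 ⟨g, hgA⟩
    exact Nat.eq_of_mul_eq_mul_left hA0 (by omega)
  obtain ⟨a, c, hac, hIac⟩ := Finset.card_eq_two.1 hI2
  have hPa : D.IsPole a x g := by
    have : a ∈ I g := by rw [hIac]; simp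
    simpa [hI] using this
  have hPc : D.IsPole c x g := by
    have : c ∈ I g := by rw [hIac]; simp
    simpa [hI] using this
  have hperm : ∀ t ∈ T, D.ρ t (a + c) = a + c := by
    intro t ht
    have hmem : ∀ z, D.IsPole z x g → D.ρ t z = a ∨ D.ρ t z = c := by
      intro z hz
      have := hz.map t
      rw [hTx t ht, hTg t ht] at this
      have : D.ρ t z ∈ I g := by simpa [hI] using this
      rw [hIac] at this
      simpa using this
    rw [map_add]
    rcases hmem a hPa with e1 | e1 <;> rcases hmem c hPc with e2 | e2 <;> rw [e1, e2]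
    · exact absurd ((D.ρ t).injective (e1.trans e2.symm)) hac
    · exact add_comm _ _
    · exact absurd ((D.ρ t).injective (e1.trans e2.symm)) hac
  have hs0 : a + c ≠ 0 := fun e => hac (add_eq_zero'.1 e)
  have hs : a + c ∈ Submodule.span (ZMod 2) {x} := by
    by_contra hs
    have hA := h.quot_ant hx
    have hg1 : (⟨g, mem_ann_span.2 hxg⟩ : D.ann (Submodule.span (ZMod 2) {x})) ≠ 0 :=
      fun e => hg (congrArg Subtype.val e)
    have hmem : (Submodule.Quotient.mk (a + c) : N ⧸ Submodule.span (ZMod 2) {x}) ∈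
        (D.quot x).Z ⟨g, mem_ann_span.2 hxg⟩ := by
      refine hA.fixed_mem_Z hg1 (T := T.subgroupOf (stab D.ρ x)) (fun u hu => ?_)
        (by rwa [Ne, Submodule.Quotient.mk_eq_zero]) fun t ht => ?_
      · induction u using Submodule.Quotient.induction_on with | H u => ?_
        ext w
        induction w using Submodule.Quotient.induction_on with | H w => ?_
        constructor
        · rintro ⟨t, ht, htu⟩
          rw [← htu]
          exact (D.b_stab (hTg t.1 ht) u).trans hu
        · intro hw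
          obtain ⟨t, ht, rfl⟩ : w ∈ orb D.ρ T u := by rw [hTorb u hu]; exact hw
          exact ⟨⟨t, hTx t ht⟩, ht, rfl⟩
      · change (D.quot x).ρ t _ = _
        rw [quot_ρ_mk, hperm t.1 ht]
    have hP2 := (h.pole_iff (hp := hp) hx hs hg hxg).2 hmem
    have hZy := (h.pole_iff (hp := hp) hx hy hg hxg).1 hP
    have hc := hA.Z_card hg1
    rw [show finrank (ZMod 2) (N ⧸ Submodule.span (ZMod 2) {x}) - par (D.quot x).ρ = 1 by
      have := finrank_quot hx; have := hp x hx; omega] at hc
    obtain ⟨z, hz⟩ := Set.ncard_eq_one.1 hc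
    rw [hz] at hZy hmem
    have := hmem.trans hZy.symm
    rw [Submodule.Quotient.eq, ZModModule.sub_eq_add] at this
    have hfx := hperm t₀ ht₀
    rcases mem_span1.1 this with e | e
    · rw [add_eq_zero'.1 e, hty] at hfx
      simp [hx] at hfx
    · have : a + c = y + x := by
        rw [← e, ← add_assoc, add_comm y (a + c), add_assoc, vadd_self, add_zero]
      rw [this, map_add, hty, hTx t₀ ht₀, add_assoc, vadd_self, add_zero] at hfx
      simp [hx] at hfx
  have hax : c = a + x := by
    rcases mem_span1.1 hs with e | e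
    · exact absurd e hs0
    · rw [← e, ← add_assoc, vadd_self, zero_add]
  have e1 : D.IsPole a (x + a) g := h.pole_shift (hp := hp) hPa
  have e2 : D.IsPole (a + x) a g := by
    have := h.pole_shift (hp := hp) (hax ▸ hPc)
    rwa [add_comm x (a + x), add_assoc, vadd_self, add_zero] at this
  rw [add_comm x a] at e1
  exact hall a (a + x) g g e1 e2 rfl

/-- The alternating trilinear form. -/
theorem contradiction (h4 : 4 ≤ finrank (ZMod 2) N) : False := by
  classical
  let F : N → N → N' := fun x y =>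
    if hh : x ≠ 0 ∧ y ∉ Submodule.span (ZMod 2) {x} then
      (h.exists_pole (hp := hp) hh.1 hh.2).choose else 0
  have hF : ∀ x y, x ≠ 0 → y ∉ Submodule.span (ZMod 2) {x} → D.IsPole x y (F x y) := by
    intro x y hx hy
    simp only [F, dif_pos (And.intro hx hy)]
    exact (h.exists_pole (hp := hp) hx hy).choose_spec
  have hF0 : ∀ x y, (x = 0 ∨ y ∈ Submodule.span (ZMod 2) {x}) → F x y = 0 := by
    intro x y hxy
    simp only [F]
    rw [dif_neg]
    tauto
  have hswap : ∀ x y, F x y = F y x := by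
    intro x y
    by_cases hd : x = 0 ∨ y ∈ Submodule.span (ZMod 2) {x}
    · rw [hF0 x y hd, hF0 y x]
      rcases hd with rfl | hd
      · exact Or.inr (zero_mem _)
      · rcases mem_span1.1 hd with rfl | rfl
        · exact Or.inl rfl
        · exact Or.inr hd
    · push Not at hd
      obtain ⟨h1, h2⟩ := not_span_symm hd.1 hd.2
      exact h.pole_unique (hp := hp) (h.pole_symm (hp := hp) (hF x y hd.1 hd.2)) (hF y x h1 h2)
  have h23 : ∀ x y w, D.b w (F x y) = D.b y (F x w) := by
    intro x y w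
    by_cases hx : x = 0
    · rw [hF0 x y (Or.inl hx), hF0 x w (Or.inl hx)]; simp
    have hb : ∀ y w, y ∈ Submodule.span (ZMod 2) {x} → D.b y (F x w) = 0 := by
      intro y w hy
      rcases mem_span1.1 hy with rfl | rfl
      · simp
      · by_cases hw : w ∈ Submodule.span (ZMod 2) {y}
        · simp [hF0 y w (Or.inr hw)]
        · exact (hF y w hx hw).2.2.2.1
    by_cases hy : y ∈ Submodule.span (ZMod 2) {x}
    · rw [hF0 x y (Or.inr hy), hb y w hy]; simp
    by_cases hw : w ∈ Submodule.span (ZMod 2) {x}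
    · rw [hF0 x w (Or.inr hw), hb w y hw]; simp
    exact z2_ext _ _ ⟨h.pole_pair (hp := hp) (hF x y hx hy) (hF x w hx hw),
      h.pole_pair (hp := hp) (hF x w hx hw) (hF x y hx hy)⟩
  have hadd : ∀ x y y', F x (y + y') = F x y + F x y' := fun x y y' =>
    D.flip_injective (LinearMap.ext fun w => by
      change D.b w (F x (y + y')) = D.b w (F x y + F x y')
      rw [map_add, h23, h23 x y w, h23 x y' w, map_add, LinearMap.add_apply])
  let A₁ : N → N →ₗ[ZMod 2] Dual (ZMod 2) N := fun x =>
    (AddMonoidHom.mk' (fun y => D.b.flip (F x y)) fun y y' => by rw [hadd, map_add]).toZModLinearMap 2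
  have hA₁ : ∀ x y w, A₁ x y w = D.b w (F x y) := fun _ _ _ => rfl
  let A : N →ₗ[ZMod 2] N →ₗ[ZMod 2] Dual (ZMod 2) N :=
    (AddMonoidHom.mk' A₁ fun x x' => LinearMap.ext fun y => LinearMap.ext fun w => by
      simp only [LinearMap.add_apply, hA₁]
      rw [hswap (x + x') y, hadd, map_add, hswap y x, hswap y x']).toZModLinearMap 2
  have hA : ∀ x y w, A x y w = D.b w (F x y) := fun _ _ _ => rfl
  refine no_sym A h4 (fun x => LinearMap.ext fun w => ?_) (fun x y w => ?_) (fun x hx y hxy => ?_)
  · simp [hA, hF0 x x (Or.inr (Submodule.mem_span_singleton_self x))]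
  · rw [hA, hA]; exact h23 x y w
  · by_contra hy
    rw [← mem_span1] at hy
    have := hF x y hx hy
    exact this.2.2.1 (D.sepR _ fun w => by rw [← hA, hxy]; rfl)

end Top

end Duo

end Cfsg.Agent.CamKan
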