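import Cfsg.Agent.Lib.CamKan.Count
import Cfsg.Agent.Lib.CamKan.Geometry
import Cfsg.Agent.Lib.CamKan.Phi
import Cfsg.Agent.Lib.CamKan.Elation

/-!
# The theorem of Cameron and Kantor over `𝔽₂`

`classify`: a group of linear maps of `𝔽₂^m`, `m ≥ 3`, transitive on pairs of distinct
non-zero vectors is the whole group, or `m = 4` and its order is 2520.
-/

set_option autoImplicit false

namespace Cfsg.Agent.CamKan

open Module

universe u

namespace Duo

variable {G : Type*} [Group G] {N N' : Type*} [AddCommGroup N] [Module (ZMod 2) N]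
  [AddCommGroup N'] [Module (ZMod 2) N'] [Finite N] [Finite N'] [Finite G] {D : Duo G N N'}

/-- The stabiliser of a vector is doubly transitive on the quotient. -/
theorem Top.par_eq_one (h : D.Top) {x : N} (hx : x ≠ 0) : par (D.quot x).ρ = 1 := by
  have hA := h.quot_ant hx
  have hn := finrank_quot hx
  have h1 := hA.one_le_par
  have h2 := hA.par_lt
  by_contra hne
  rcases (show par (D.quot x).ρ + 2 = finrank (ZMod 2) N ∨
      par (D.quot x).ρ + 3 ≤ finrank (ZMod 2) N by omega) with he | he
  · exact Top.contradiction (h := h)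
      (fun y hy => by rw [← h.par_quot hx hy]; exact he) (by omega)
  have key : ∀ φ : Dual (ZMod 2) (N ⧸ Submodule.span (ZMod 2) {x}), φ ≠ 0 →
      ∃ fb, fb ≠ 0 ∧ zset (U (D.quot x).ρ) φ = (D.quot x).Z fb := by
    intro φ hφ
    obtain ⟨fb, hfb⟩ := (D.quot x).exists_vec φ
    refine ⟨fb, fun e => hφ (LinearMap.ext fun v => ?_), ?_⟩
    · rw [← hfb, e, map_zero]; rfl
    · ext v; simp only [zset, Duo.Z, hfb]
  refine Geo.contradiction (U := U (D.quot x).ρ) (e := par (D.quot x).ρ)
    ⟨by omega, by omega, fun v hv => hA.self_mem hv, fun v hv => hA.dim_U hv,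
      fun v w hv hw hvw => hA.U_symm hv hw hvw, fun φ hφ => ?_, fun φ hφ => ?_, fun φ hφ => ?_⟩
  all_goals obtain ⟨fb, hfb0, hz⟩ := key φ hφ
  · rw [hz]; exact hA.Z_card hfb0
  · rw [hz]; exact fun v hv w hw hvw => hA.Z_add hfb0 hv hw hvw
  · rw [hz]
    obtain ⟨f, hf⟩ := fb
    have hf0 : f ≠ 0 := fun e => hfb0 (Subtype.ext e)
    have hxf : D.b x f = 0 := hf x (Submodule.mem_span_singleton_self x)
    obtain ⟨hle, heq⟩ := h.compare hx hf0 hxf (by omega) he
    refine heq (le_antisymm ?_ hle)
    have hA' := h.swap.quot_ant hf0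
    have h3 := hA'.par_lt
    have h4 := finrank_quot (N := N') hf0
    have h5 := D.finrank_eq
    rcases (show par (D.swap.quot f).ρ + 2 = finrank (ZMod 2) N' ∨
        par (D.swap.quot f).ρ + 3 ≤ finrank (ZMod 2) N' by omega) with he' | he'
    · exact (Top.contradiction (h := h.swap)
        (fun y hy => by rw [← h.swap.par_quot hf0 hy]; exact he') (by omega)).elim
    · exact (h.swap.compare hf0 hx hxf (by omega) he').1

end Duo

variable {N : Type u} [AddCommGroup N] [Module (ZMod 2) N]

/-- Transitivity on pairs of distinct non-zero vectors. -/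
def PairTrans (H : Subgroup (N ≃ₗ[ZMod 2] N)) : Prop :=
  ∀ a b c d : N, a ≠ 0 → b ≠ 0 → a ≠ b → c ≠ 0 → d ≠ 0 → c ≠ d → ∃ h ∈ H, h a = c ∧ h b = d

variable [Finite N]

/-- A subgroup with its action on functionals. -/
noncomputable def duoOf (H : Subgroup (N ≃ₗ[ZMod 2] N)) : Duo H N (Dual (ZMod 2) N) where
  ρ := H.subtype
  σ :=
    { toFun := fun g => (g : N ≃ₗ[ZMod 2] N).symm.dualMap
      map_one' := by ext φ v; simp; rfl
      map_mul' := fun g h => by
        ext φ v
        simp [LinearEquiv.mul_apply, LinearEquiv.dualMap_apply]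
        congr 1 }
  b := Dual.eval (ZMod 2) N
  b_smul g v f := by simp [LinearEquiv.dualMap_apply]
  sepL v h := (Module.forall_dual_apply_eq_zero_iff (ZMod 2) v).1 h
  sepR f h := LinearMap.ext h

theorem duoOf_top (H : Subgroup (N ≃ₗ[ZMod 2] N)) (h : PairTrans H)
    (hm : 3 ≤ finrank (ZMod 2) N) : (duoOf H).Top where
  three_le := hm
  trans v w hv hw := by
    obtain ⟨a, ha⟩ : ∃ a, a ∉ Submodule.span (ZMod 2) {v} := by
      by_contra hc; push Not at hc
      have := finrank_span_singleton (K := ZMod 2) hv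
      rw [show Submodule.span (ZMod 2) ({v} : Set N) = ⊤ from eq_top_iff.2 fun a _ => hc a,
        finrank_top] at this
      omega
    obtain ⟨c, hc⟩ : ∃ c, c ∉ Submodule.span (ZMod 2) {w} := by
      by_contra hc; push Not at hc
      have := finrank_span_singleton (K := ZMod 2) hw
      rw [show Submodule.span (ZMod 2) ({w} : Set N) = ⊤ from eq_top_iff.2 fun a _ => hc a,
        finrank_top] at this
      omega
    rw [mem_span1, not_or] at ha hc
    obtain ⟨g, hg, h1, -⟩ := h v a w c hv ha.1 (Ne.symm ha.2) hw hc.1 (Ne.symm hc.2)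
    exact ⟨⟨g, hg⟩, h1⟩
  trans2 x v w hv hw := by
    rw [mem_span1, not_or] at hv hw
    by_cases hx : x = 0
    · subst hx
      obtain ⟨a, ha⟩ : ∃ a, a ∉ Submodule.span (ZMod 2) {v} := by
        by_contra hc; push Not at hc
        have := finrank_span_singleton (K := ZMod 2) hv.1
        rw [show Submodule.span (ZMod 2) ({v} : Set N) = ⊤ from eq_top_iff.2 fun a _ => hc a,
          finrank_top] at this
        omega
      rw [mem_span1, not_or] at ha
      by_cases haw : a = w
      · obtain ⟨g, hg, h1, -⟩ := h v a w v hv.1 ha.1 (Ne.symm ha.2) hw.1 hv.1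
          (fun e => ha.2 (haw.trans e))
        exact ⟨⟨g, hg⟩, map_zero _, h1⟩
      · obtain ⟨g, hg, h1, -⟩ := h v a w a hv.1 ha.1 (Ne.symm ha.2) hw.1 ha.1 (Ne.symm haw)
        exact ⟨⟨g, hg⟩, map_zero _, h1⟩
    · obtain ⟨g, hg, h1, h2⟩ := h x v x w hx hv.1 (Ne.symm hv.2) hx hw.1 (Ne.symm hw.2)
      exact ⟨⟨g, hg⟩, h1, h2⟩

/-- The doubly transitive induced group on the quotient. -/
theorem quot_pairTrans {H : Subgroup (N ≃ₗ[ZMod 2] N)} (h : (duoOf H).Top) {x : N} (hx : x ≠ 0) :
    PairTrans ((duoOf H).quot x).ρ.range := by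
  have hA := h.quot_ant hx
  have hU : ∀ v, v ≠ 0 → ∀ w, w ∈ U ((duoOf H).quot x).ρ v → w = 0 ∨ w = v := by
    intro v hv w hw
    have : U ((duoOf H).quot x).ρ v = Submodule.span (ZMod 2) {v} :=
      (Submodule.eq_of_le_of_finrank_eq
        ((Submodule.span_singleton_le_iff_mem _ _).2 (hA.self_mem hv))
        (by rw [finrank_span_singleton hv, hA.dim_U hv, h.par_eq_one hx])).symm
    rw [this] at hw
    exact mem_span1.1 hw
  intro a b c d ha hb hab hc hd hcd
  obtain ⟨k, hk⟩ := hA.trans a c ha hc
  have hb' : ((duoOf H).quot x).ρ k b ∉ U ((duoOf H).quot x).ρ c := by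
    intro hh
    rcases hU c hc _ hh with e | e
    · exact hb (by simpa using e)
    · exact hab ((((duoOf H).quot x).ρ k).injective (hk.trans e.symm))
  have hd' : d ∉ U ((duoOf H).quot x).ρ c := by
    intro hh
    rcases hU c hc _ hh with e | e
    · exact hd e
    · exact hcd e.symm
  obtain ⟨g, hg, hgd⟩ := hA.trans_compl hc hb' hd'
  exact ⟨_, ⟨g * k, rfl⟩, by rw [mul_apply', hk, (mem_stab _).1 hg], by rw [mul_apply', hgd]⟩

/-- No elation-free lift of a full linear group. -/
theorem not_full {H : Subgroup (N ≃ₗ[ZMod 2] N)} (h : (duoOf H).Top)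
    (hm : 5 ≤ finrank (ZMod 2) N) {x : N} (hx : x ≠ 0)
    (hsur : Function.Surjective ((duoOf H).quot x).ρ)
    (hel : ∀ g ∈ H, g x = x → (∀ z, g z + z = 0 ∨ g z + z = x) → g = 1) : False := by
  classical
  set D := duoOf H with hD
  set K := D.quot x with hK
  have hn := Duo.finrank_quot hx
  have hinj : Function.Injective K.ρ := by
    rw [injective_iff_map_eq_one]
    intro g hg
    refine Subtype.ext (Subtype.ext (hel _ g.1.2 g.2 fun z => ?_))
    have := LinearEquiv.congr_fun hg (Submodule.Quotient.mk z)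
    rw [hK, Duo.quot_ρ_mk, LinearEquiv.coe_one, id_eq, Submodule.Quotient.eq,
      ZModModule.sub_eq_add, mem_span1] at this
    exact this
  choose s hs using hsur
  obtain ⟨p, hp⟩ : ∃ p : N, p ∉ Submodule.span (ZMod 2) {x} := h.exists_not_span x
  obtain ⟨φ, -, hφ1⟩ := exists_dual_one (⊥ : Submodule (ZMod 2) (N ⧸ Submodule.span (ZMod 2) {x}))
    (v := Submodule.Quotient.mk p) (by simpa [Submodule.Quotient.mk_eq_zero] using hp)
  have hφ0 : φ ≠ 0 := fun e => by simp [e] at hφ1
  have hk := finrank_ker_dual hφ0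
  obtain ⟨w, hwker, hw0⟩ := (LinearMap.ker φ).exists_mem_ne_zero_of_ne_bot fun hb => by
    rw [hb, finrank_bot] at hk; omega
  have hw : φ w = 0 := hwker
  -- action of the lift of a transvection
  let τ : ∀ w, φ w = 0 → stab D.ρ x := fun w hw => s (tvec φ w hw)
  have hτmk : ∀ w (hw : φ w = 0) z, (Submodule.Quotient.mk (D.ρ (τ w hw).1 z) :
      N ⧸ Submodule.span (ZMod 2) {x}) = Submodule.Quotient.mk z + φ (Submodule.Quotient.mk z) • w := by
    intro w hw z
    rw [← Duo.quot_ρ_mk, ← hK, hs, tvec_apply]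
  have hτx : ∀ w hw, D.ρ (τ w hw).1 x = x := fun w hw => (τ w hw).2
  have hτM : ∀ w hw y, φ (Submodule.Quotient.mk y) = 0 →
      D.ρ (τ w hw).1 y = y ∨ D.ρ (τ w hw).1 y = y + x := by
    intro w hw y hy
    have := hτmk w hw y
    rw [hy, zero_smul, add_zero, Submodule.Quotient.eq, ZModModule.sub_eq_add, mem_span1] at this
    rcases this with e | e
    · exact Or.inl (add_eq_zero'.1 e)
    · refine Or.inr ?_
      rw [← add_eq_zero', ← add_assoc, e, vadd_self]
  -- lifts of `w` are fixed
  have hdiag : ∀ w hw y, Submodule.Quotient.mk y = w → D.ρ (τ w hw).1 y = y := by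
    intro w hw y hy
    have hsq : τ w hw * τ w hw = 1 := hinj (by
      rw [map_mul, map_one, hs]
      ext z
      simp [LinearEquiv.mul_apply, hw, add_assoc, vadd_self])
    have hp1 : φ (Submodule.Quotient.mk p) = 1 := hφ1
    set y' := D.ρ (τ w hw).1 p + p with hy'
    have hy'w : Submodule.Quotient.mk y' = w := by
      rw [hy', Submodule.Quotient.mk_add, hτmk, hp1, one_smul, add_comm, ← add_assoc, vadd_self,
        zero_add]
    have hfix : D.ρ (τ w hw).1 y' = y' := by
      rw [hy', map_add, ← mul_apply', ← Subgroup.coe_mul, hsq, Subgroup.coe_one, map_one,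
        LinearEquiv.coe_one, id_eq, add_comm]
    have hyy : y + y' ∈ Submodule.span (ZMod 2) {x} := by
      rw [← ZModModule.sub_eq_add, ← Submodule.Quotient.eq]; exact hy.trans hy'w.symm
    rcases mem_span1.1 hyy with e | e
    · rw [add_eq_zero'.1 e]; exact hfix
    · rw [show y = y' + x by rw [← e, ← add_assoc, add_comm y', add_assoc, vadd_self, add_zero],
        map_add, hfix, hτx]
  -- hence the whole hyperplane is fixed
  have hall : ∀ w hw y, φ (Submodule.Quotient.mk y) = 0 → D.ρ (τ w hw).1 y = y := by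
    intro w hw y' hy'
    by_contra hmove
    have hym := (hτM w hw y' hy').resolve_left hmove
    set c := (Submodule.Quotient.mk y' : N ⧸ Submodule.span (ZMod 2) {x}) with hc
    have hw0 : w ≠ 0 := by
      intro e
      apply hmove
      have : τ w hw = 1 := hinj (by rw [map_one, hs]; ext z; simp [e])
      simp [this]
    have hcw : c ≠ w := fun e => hmove (hdiag w hw y' e)
    have hc0 : c ≠ 0 := by
      intro e
      apply hmove
      rw [hc, Submodule.Quotient.mk_eq_zero, mem_span1] at e
      rcases e with e | e <;> rw [e]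
      · exact map_zero _
      · exact hτx w hw
    obtain ⟨a, haφ, haS⟩ : ∃ a, φ a = 0 ∧ a ∉ Submodule.span (ZMod 2) {w} ⊔ Submodule.span (ZMod 2) {c} := by
      by_contra hcon; push Not at hcon
      have h1 := Submodule.finrank_mono (show LinearMap.ker φ ≤ _ from hcon)
      have h2 := Submodule.finrank_add_le_finrank_add_finrank (Submodule.span (ZMod 2) {w})
        (Submodule.span (ZMod 2) {c})
      rw [finrank_span_singleton hw0, finrank_span_singleton hc0] at h2
      omega
    obtain ⟨ψ, hψ1, hψ2⟩ := exists_dual_one _ haS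
    have hψw : ψ w = 0 := hψ1 w (Submodule.mem_sup_left (Submodule.mem_span_singleton_self w))
    have hψc : ψ c = 0 := hψ1 c (Submodule.mem_sup_right (Submodule.mem_span_singleton_self c))
    set k := s (tvec ψ c hψc) with hkdef
    have hcomm : k * τ w hw = τ w hw * k := hinj (by
      rw [map_mul, map_mul, hs, hs]
      ext z
      simp [LinearEquiv.mul_apply, hψw, hy']
      module)
    obtain ⟨y, rfl⟩ := Submodule.Quotient.mk_surjective _ a
    have hky : (Submodule.Quotient.mk (D.ρ k.1 y) : N ⧸ Submodule.span (ZMod 2) {x}) =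
        Submodule.Quotient.mk (y + y') := by
      rw [← Duo.quot_ρ_mk, ← hK, hkdef, hs, tvec_apply, hψ2, one_smul, Submodule.Quotient.mk_add]
    rw [Submodule.Quotient.eq, ZModModule.sub_eq_add, mem_span1] at hky
    have e1 := congrArg (fun t : stab D.ρ x => D.ρ t.1 y) hcomm
    simp only [Subgroup.coe_mul, mul_apply'] at e1
    obtain ⟨t, ht, hkt⟩ : ∃ t, D.ρ (τ w hw).1 t = t ∧ D.ρ k.1 y = y + y' + t := by
      rcases hky with e | e
      · exact ⟨0, map_zero _, by rw [add_zero]; exact add_eq_zero'.1 e⟩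
      · exact ⟨x, hτx w hw, by
          rw [← add_eq_zero', ← add_assoc, e, vadd_self]⟩
    rw [hkt, map_add, map_add, hym, ht] at e1
    rcases hτM w hw y haφ with e2 | e2
    · rw [e2, hkt] at e1
      refine hx ?_
      have := e1.symm
      rw [show y + (y' + x) + t = x + (y + y' + t) by abel] at this
      simpa using this
    · rw [e2, map_add, hkt, k.2] at e1
      refine hx ?_
      rw [show y + x + (y' + x) + t = y + y' + t + (x + x) by abel, vadd_self, add_zero] at e1
      simpa using e1
  -- a transvection, hence an elation centred at `x`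
  set T := (τ w hw).1 with hT
  set c0 := D.ρ T p + p with hc0def
  have hc0w : (Submodule.Quotient.mk c0 : N ⧸ Submodule.span (ZMod 2) {x}) = w := by
    rw [hc0def, Submodule.Quotient.mk_add, hT, hτmk, hφ1, one_smul, add_comm, ← add_assoc,
      vadd_self, zero_add]
  have hc00 : c0 ≠ 0 := fun e => hw0 (by rw [← hc0w, e]; rfl)
  have htv : ∀ z, D.ρ T z + z = 0 ∨ D.ρ T z + z = c0 := by
    intro z
    rcases z2 (φ (Submodule.Quotient.mk z)) with e | e
    · left; rw [hT, hall w hw z e, vadd_self]
    · right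
      have h1 : φ (Submodule.Quotient.mk (z + p)) = 0 := by
        rw [Submodule.Quotient.mk_add, map_add, e, hφ1]; rfl
      have h2 := hall w hw _ h1
      rw [← hT, map_add] at h2
      rw [hc0def, ← add_eq_zero',
        show D.ρ T z + z + (D.ρ T p + p) = D.ρ T z + D.ρ T p + (z + p) by abel, h2, vadd_self]
  obtain ⟨k, hk⟩ := h.trans c0 x hc00 hx
  set E := k * T * k⁻¹ with hE
  have hEx : D.ρ E x = x := by
    rw [hE, ← hk, mul_apply', mul_apply', inv_apply', hT, hall w hw c0 (by rw [hc0w]; exact hw)]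
  have hEel : ∀ z, D.ρ E z + z = 0 ∨ D.ρ E z + z = x := by
    intro z
    have hz : D.ρ E z + z = D.ρ k (D.ρ T (D.ρ k⁻¹ z) + D.ρ k⁻¹ z) := by
      rw [hE, map_add, mul_apply', mul_apply', apply_inv']
    rcases htv (D.ρ k⁻¹ z) with e | e
    · left; rw [hz, e, map_zero]
    · right; rw [hz, e, hk]
  have hE1 : E = 1 := Subtype.ext (hel _ E.2 hEx hEel)
  have hT1 : T = 1 := by
    rw [hE] at hE1
    calc T = k⁻¹ * (k * T * k⁻¹) * k := by group
      _ = 1 := by rw [hE1]; group
  exact hc00 (by rw [hc0def, hT1, map_one, LinearEquiv.coe_one, id_eq, vadd_self])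

omit [Finite N] in
/-- The main theorem, by induction on the dimension. -/
theorem classify_aux : ∀ (m : ℕ) (N : Type u) [AddCommGroup N] [Module (ZMod 2) N] [Finite N]
    (H : Subgroup (N ≃ₗ[ZMod 2] N)), finrank (ZMod 2) N = m → 3 ≤ m → PairTrans H →
    H = ⊤ ∨ (m = 4 ∧ Nat.card H = 2520) := by
  intro m
  induction m using Nat.strong_induction_on with
  | _ m ih =>
    intro N _ _ _ H hN hm hH
    classical
    have h := duoOf_top H hH (hN ▸ hm)
    haveI := h.nontrivial
    obtain ⟨x, hx⟩ := exists_ne (0 : N)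
    have hn := Duo.finrank_quot hx
    by_cases hE : ∀ g ∈ H, g x = x → (∀ z, g z + z = 0 ∨ g z + z = x) → g = 1
    swap
    · left
      push Not at hE
      obtain ⟨g, hg, hgx, hel, hg1⟩ := hE
      refine top_of_elation H (fun φ ψ v w hφ hψ hv hw hφv hψw => ?_) hg hg1 hx hgx hel
      obtain ⟨k, hk⟩ := h.trans v w hv hw
      obtain ⟨j, hj, hje⟩ := h.stab_trans hw (f := (duoOf H).σ k φ) (f' := ψ) (by simpa using hφ) hψ
        (by rw [← hk, (duoOf H).b_smul]; exact hφv.trans (by rw [hk]; exact hψw.symm))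
      refine ⟨_, (j * k).2, ?_, ?_⟩
      · change (duoOf H).ρ (j * k) v = w
        rw [mul_apply', hk, (mem_stab _).1 hj]
      · change (duoOf H).σ (j * k) φ = ψ
        rw [mul_apply', hje]
    set K := (duoOf H).quot x with hK
    have hinj : Function.Injective K.ρ := by
      rw [injective_iff_map_eq_one]
      intro g hg
      refine Subtype.ext (Subtype.ext (hE _ g.1.2 g.2 fun z => ?_))
      have := LinearEquiv.congr_fun hg (Submodule.Quotient.mk z)
      rw [hK, Duo.quot_ρ_mk, LinearEquiv.coe_one, id_eq, Submodule.Quotient.eq,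
        ZModModule.sub_eq_add, mem_span1] at this
      exact this
    have hcst : Nat.card (stab (duoOf H).ρ x) = Nat.card K.ρ.range :=
      Nat.card_congr (MonoidHom.ofInjective hinj).toEquiv
    have hH' : Nat.card H = (2 ^ m - 1) * Nat.card K.ρ.range := by
      have h1 := orb_card (ρ := (duoOf H).ρ) ⊤ x
      have hOx : orb (duoOf H).ρ ⊤ x = (Set.univ : Set N) \ {0} := by
        ext w
        constructor
        · rintro ⟨g, -, rfl⟩; exact ⟨trivial, by simp [hx]⟩
        · intro hw
          obtain ⟨g, hg⟩ := h.trans x w hx hw.2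
          exact ⟨g, trivial, hg⟩
      rw [hOx, Set.ncard_diff_singleton_of_mem (Set.mem_univ _), Set.ncard_univ, card_pow, hN,
        top_inf_eq, hcst, Subgroup.card_top] at h1
      exact h1.symm
    rcases (show m = 3 ∨ 4 ≤ m by omega) with hm3 | hm4
    · -- the stabiliser has order divisible by four
      exfalso
      have h1 := orb_card (ρ := (duoOf H).σ) (stab (duoOf H).ρ x)
      obtain ⟨f, hf⟩ := exists_dual_one (⊥ : Submodule (ZMod 2) N) (v := x) (by simpa using hx)
      have hO : orb (duoOf H).σ (stab (duoOf H).ρ x) f = {u | (duoOf H).b x u = 1} := by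
        ext u
        constructor
        · rintro ⟨g, hg, rfl⟩; exact ((duoOf H).b_stab_left hg f).trans hf.2
        · intro hu
          exact h.stab_trans hx (fun e => by simp [e] at hf) (fun e => by simp [e] at hu)
            (hf.2.trans hu.symm)
      have h4 := h1 f
      rw [hO, show {u | (duoOf H).b x u = 1}.ncard = 2 ^ (finrank (ZMod 2) (Dual (ZMod 2) N) - 1)
        from ncard_one (φ := (duoOf H).b x) (fun e => by
          have := LinearMap.congr_fun e f
          simp [show (duoOf H).b x f = 1 from hf.2] at this),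
        Subspace.dual_finrank_eq, hN, hm3, hcst] at h4
      have h6 := Subgroup.card_subgroup_dvd_card K.ρ.range
      rw [card_linearEquiv, show finrank (ZMod 2) (N ⧸ Submodule.span (ZMod 2) {x}) = 2 by omega,
        Fin.prod_univ_two,
        show (2 ^ 2 - 2 ^ ((0 : Fin 2) : ℕ)) * (2 ^ 2 - 2 ^ ((1 : Fin 2) : ℕ)) = 6 from rfl] at h6
      have : 4 ∣ 6 := (Dvd.intro _ h4).trans h6
      norm_num at this
    rcases ih (m - 1) (by omega) _ K.ρ.range (by omega) (by omega) (quot_pairTrans h hx) with
      htop | ⟨hm', hc⟩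
    · by_cases hm' : m = 4
      · right
        refine ⟨hm', ?_⟩
        rw [hH', htop, Subgroup.card_top, card_linearEquiv,
          show finrank (ZMod 2) (N ⧸ Submodule.span (ZMod 2) {x}) = 3 by omega, hm']
        simp [Fin.prod_univ_three]
      · exact (not_full h (by omega) hx (MonoidHom.range_eq_top.1 htop) hE).elim
    · exact (not_five H (by omega) (by rw [hH', hc, show m = 5 by omega]; norm_num)).elim

/-- A group of linear maps of `𝔽₂^m`, `m ≥ 3`, transitive on pairs of distinct non-zero
vectors is everything, or `m = 4` and its order is 2520. -/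
theorem classify (H : Subgroup (N ≃ₗ[ZMod 2] N)) (hm : 3 ≤ finrank (ZMod 2) N)
    (hH : PairTrans H) : H = ⊤ ∨ (finrank (ZMod 2) N = 4 ∧ Nat.card H = 2520) :=
  classify_aux _ N H rfl hm hH

end Cfsg.Agent.CamKan
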