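import Cfsg.Agent.Lib.CamKan.Main
import Cfsg.Agent.S0675
import Cfsg.Agent.S3360

/-!
# Transitive linear groups in Mersenne prime dimension
-/

set_option autoImplicit false

namespace Cfsg.Agent.CamKan

open Module

universe u

variable {V : Type u} [AddCommGroup V] [Module (ZMod 2) V] [Finite V]

theorem exists_map_vec {v w : V} (hv : v ≠ 0) (hw : w ≠ 0) : ∃ g : V ≃ₗ[ZMod 2] V, g v = w := by
  by_cases hvw : v = w
  · exact ⟨1, hvw⟩
  obtain ⟨φ, h1, h2⟩ := exists_dual_one (Submodule.span (ZMod 2) {v + w}) (v := v) (by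
    rw [mem_span1]
    rintro (h | h)
    · exact hv h
    · exact hw (by simpa using h))
  refine ⟨tvec φ (v + w) (h1 _ (Submodule.mem_span_singleton_self _)), ?_⟩
  rw [tvec_apply, h2, one_smul, ← add_assoc, vadd_self, zero_add]

theorem trans_of_card_prime {n : ℕ} (hn : finrank (ZMod 2) V = n) (hp : (2 ^ n - 1).Prime)
    (C : Subgroup (V ≃ₗ[ZMod 2] V)) (hC : Nat.card C = 2 ^ n - 1) :
    ∀ v w : V, v ≠ 0 → w ≠ 0 → ∃ h ∈ C, h v = w := by
  classical
  obtain ⟨u, hu⟩ : ∃ u : V, ∃ g ∈ C, g u ≠ u := by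
    by_contra hc; push Not at hc
    have : C = ⊥ := (Subgroup.eq_bot_iff_forall _).2 fun g hg => LinearEquiv.ext fun v => hc v g hg
    rw [this, Subgroup.card_bot] at hC
    exact Nat.not_prime_one (hC ▸ hp)
  let ρ : (V ≃ₗ[ZMod 2] V) →* (V ≃ₗ[ZMod 2] V) := MonoidHom.id _
  obtain ⟨g₀, hg₀, hmove⟩ := hu
  have hu0 : u ≠ 0 := fun e => hmove (by simp [e])
  have h1 := orb_card (ρ := ρ) C u
  rw [hC] at h1
  have hcard : (orb ρ C u).ncard = 2 ^ n - 1 := by
    rcases (Nat.dvd_prime hp).1 (Dvd.intro _ h1) with e | e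
    · exfalso
      obtain ⟨a, ha⟩ := Set.ncard_eq_one.1 e
      have e1 : u ∈ orb ρ C u := self_mem_orb _ _
      have e2 : g₀ u ∈ orb ρ C u := ⟨g₀, hg₀, rfl⟩
      rw [ha] at e1 e2
      exact hmove (e2.trans e1.symm)
    · exact e
  have hall : orb ρ C u = (Set.univ : Set V) \ {0} := by
    refine Set.eq_of_subset_of_ncard_le ?_ ?_ (Set.toFinite _)
    · rintro _ ⟨k, -, rfl⟩; exact ⟨trivial, by simp [hu0]⟩
    · rw [hcard, Set.ncard_diff_singleton_of_mem (Set.mem_univ _), Set.ncard_univ, card_pow, hn]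
  intro v w hv hw
  obtain ⟨a, ha, hav⟩ : v ∈ orb ρ C u := by rw [hall]; exact ⟨trivial, hv⟩
  obtain ⟨b, hb, hbw⟩ : w ∈ orb ρ C u := by rw [hall]; exact ⟨trivial, hw⟩
  refine ⟨b * a⁻¹, C.mul_mem hb (C.inv_mem ha), ?_⟩
  rw [← hav, ← hbw]
  change ρ (b * a⁻¹) (ρ a u) = ρ b u
  rw [mul_apply', inv_apply']

/-- A transitive non-solvable group in Mersenne prime dimension is everything. -/
theorem top_of_not_solvable {n : ℕ} (hn : finrank (ZMod 2) V = n) (hp : (2 ^ n - 1).Prime)
    (hn3 : 3 ≤ n) (H : Subgroup (V ≃ₗ[ZMod 2] V))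
    (htr : ∀ v w : V, v ≠ 0 → w ≠ 0 → ∃ h ∈ H, h v = w) (hns : ¬ Group.IsSolvable H) :
    H = ⊤ := by
  classical
  let α := {v : V // v ≠ 0}
  letI : Fintype α := Fintype.ofFinite α
  letI : MulAction H α :=
    { smul := fun g a => ⟨(g : V ≃ₗ[ZMod 2] V) a, by simp [a.2]⟩
      one_smul := fun a => Subtype.ext rfl
      mul_smul := fun g k a => Subtype.ext rfl }
  have hcard : Fintype.card α = 2 ^ n - 1 := by
    have : (Set.univ \ {(0 : V)}).ncard = 2 ^ n - 1 := by
      rw [Set.ncard_diff_singleton_of_mem (Set.mem_univ _), Set.ncard_univ, card_pow, hn]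
    rw [← this, ← Nat.card_coe_set_eq, ← Nat.card_eq_fintype_card]
    exact Nat.card_congr (Equiv.subtypeEquivRight fun v => by simp)
  set f := MulAction.toPermHom H α
  have hinj : Function.Injective f := by
    rw [injective_iff_map_eq_one]
    intro g hg
    refine Subtype.ext (LinearEquiv.ext fun v => ?_)
    by_cases hv : v = 0
    · simp [hv]
    · exact congrArg Subtype.val (Equiv.congr_fun hg ⟨v, hv⟩)
  haveI : MulAction.IsPretransitive f.range α := ⟨fun a b => by
    obtain ⟨g, hg, he⟩ := htr a.1 b.1 a.2 b.2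
    exact ⟨⟨f ⟨g, hg⟩, ⟨_, rfl⟩⟩, Subtype.ext he⟩⟩
  have h2 : MulAction.IsMultiplyPretransitive f.range α 2 := by
    refine (Cfsg.Agent.S0675.result (hcard ▸ hp) f.range).resolve_left fun hs => hns ?_
    haveI := hs
    exact solvable_of_solvable_injective (f := f.rangeRestrict) fun a b e =>
      hinj (congrArg Subtype.val e)
  rw [MulAction.is_two_pretransitive_iff] at h2
  have hP : PairTrans H := by
    intro a b c d ha hb hab hc hd hcd
    obtain ⟨⟨_, g, rfl⟩, h1, h1'⟩ := h2 (a := (⟨a, ha⟩ : α)) (b := ⟨b, hb⟩) (c := ⟨c, hc⟩)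
      (d := ⟨d, hd⟩) (fun e => hab (congrArg Subtype.val e)) (fun e => hcd (congrArg Subtype.val e))
    exact ⟨g, g.2, congrArg Subtype.val h1, congrArg Subtype.val h1'⟩
  rcases classify H (hn ▸ hn3) hP with h | ⟨h4, -⟩
  · exact h
  · rw [hn] at h4; subst h4; norm_num at hp

/-- A transitive solvable group in Mersenne prime dimension is semilinear. -/
theorem semilinear {n : ℕ} (hn : finrank (ZMod 2) V = n) (hp : (2 ^ n - 1).Prime)
    (H : Subgroup (V ≃ₗ[ZMod 2] V)) (htr : ∀ v w : V, v ≠ 0 → w ≠ 0 → ∃ h ∈ H, h v = w)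
    (hs : Group.IsSolvable H) :
    (IsCyclic H ∧ Nat.card H = 2 ^ n - 1) ∨
      (Nat.card H = n * (2 ^ n - 1) ∧ ∃ C : Subgroup (V ≃ₗ[ZMod 2] V), C ≤ H ∧
        (C.subgroupOf H).Normal ∧ IsCyclic C ∧ Nat.card C = 2 ^ n - 1) := by
  classical
  have hnp : n.Prime := (Nat.prime_of_pow_sub_one_prime (fun e => by subst e; exact Nat.not_prime_one hp) hp).2
  haveI : Nontrivial V := by
    rw [← Finite.one_lt_card_iff_nontrivial, card_pow, hn]
    exact Nat.one_lt_two_pow hnp.ne_zero
  haveI : Fact (Nat.Prime 2) := ⟨Nat.prime_two⟩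
  rcases Cfsg.Agent.S3360.result 2 hs H.subtype Subtype.val_injective
      (fun v w hv hw => by obtain ⟨h, hh, e⟩ := htr v w hv hw; exact ⟨⟨h, hh⟩, e⟩) with
    ⟨F, _, _, e, hsem⟩ | hexc
  swap
  · exfalso
    rw [card_pow, hn] at hexc
    have heven : 2 ∣ 2 ^ n := dvd_pow_self 2 hnp.ne_zero
    rcases hexc with h | h | h | h | h | h <;> rw [h] at heven <;> norm_num at heven
  choose a σ haσ using hsem
  have hcardF : Nat.card F = 2 ^ n := by rw [← Nat.card_congr e.toEquiv, card_pow, hn]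
  haveI : CharP F 2 := by
    refine (CharP.charP_iff_prime_eq_zero Nat.prime_two).2 ?_
    have h0 : (1 : F) + 1 = 0 := by
      rw [← e.apply_symm_apply 1, ← map_add, vadd_self, map_zero]
    exact_mod_cast (one_add_one_eq_two (R := F)) ▸ h0
  letI : Algebra (ZMod 2) F := ZMod.algebra F 2
  have ha : ∀ g, a g ≠ 0 := by
    intro g hg
    obtain ⟨v, hv⟩ := exists_ne (0 : V)
    have := haσ g v
    rw [hg, zero_mul] at this
    exact hv ((H.subtype g).injective (by rw [map_zero]; exact e.injective (this.trans (map_zero e).symm)))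
  have huniq : ∀ (a a' : F) (s s' : F ≃+* F), a ≠ 0 → (∀ z, a * s z = a' * s' z) → s = s' := by
    intro a a' s s' h0 h
    have h1 := h 1
    simp only [map_one, mul_one] at h1
    exact RingEquiv.ext fun z => mul_left_cancel₀ h0 (by rw [h z, h1])
  have hσone : σ 1 = RingEquiv.refl F := huniq (a 1) 1 _ _ (ha 1) fun z => by
    have := haσ 1 (e.symm z)
    simp at this
    simpa using this.symm
  have hσmul : ∀ g h, σ (g * h) = (σ h).trans (σ g) := fun g h =>
    huniq (a (g * h)) (a g * σ g (a h)) _ _ (ha _) fun z => by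
      have h1 := haσ (g * h) (e.symm z)
      rw [map_mul, LinearEquiv.mul_apply, haσ g, haσ h, e.apply_symm_apply, map_mul] at h1
      rw [← h1, RingEquiv.trans_apply, mul_assoc]
  let lift : (F ≃+* F) → (F ≃ₐ[ZMod 2] F) := fun s => AlgEquiv.ofRingEquiv (f := s) fun c => by
    rcases z2 c with rfl | rfl <;> simp
  let π : H →* (F ≃ₐ[ZMod 2] F) :=
    { toFun := fun g => lift (σ g)
      map_one' := AlgEquiv.ext fun z => by simp [lift, hσone]
      map_mul' := fun g h => AlgEquiv.ext fun z => by simp [lift, hσmul, AlgEquiv.mul_apply] }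
  have hker : ∀ g ∈ π.ker, ∀ v, e ((H.subtype g) v) = a g * e v := by
    intro g hg v
    have := AlgEquiv.congr_fun (show π g = 1 from hg) (e v)
    simp only [π, lift, MonoidHom.coe_mk, OneHom.coe_mk, AlgEquiv.one_apply] at this
    rw [haσ g v]
    exact congrArg (a g * ·) this
  let mult : π.ker →* Fˣ :=
    MonoidHom.mk' (fun g => Units.mk0 (a g.1) (ha g.1)) fun g h => Units.ext <| by
      have h1 := hker _ (g * h).2 (e.symm 1)
      simp only [Subgroup.coe_mul, map_mul, LinearEquiv.mul_apply] at h1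
      rw [hker _ g.2, hker _ h.2, e.apply_symm_apply, mul_one, mul_one] at h1
      exact h1.symm
  have hminj : Function.Injective mult := by
    intro g h hgh
    have h1 : a g.1 = a h.1 := congrArg Units.val hgh
    refine Subtype.ext (Subtype.ext (LinearEquiv.ext fun v => e.injective ?_))
    change e ((H.subtype g.1) v) = e ((H.subtype h.1) v)
    rw [hker _ g.2, hker _ h.2, h1]
  haveI hcyc : IsCyclic π.ker := isCyclic_of_injective mult hminj
  have hkdvd : Nat.card π.ker ∣ 2 ^ n - 1 := by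
    have := Subgroup.card_dvd_of_injective mult hminj
    rwa [Nat.card_units, hcardF] at this
  have hrdvd : Nat.card π.range ∣ n := by
    have h1 := Subgroup.card_subgroup_dvd_card π.range
    have h2 : Nat.card (F ≃ₐ[ZMod 2] F) = n := by
      rw [IsGalois.card_aut_eq_finrank]
      have h3 := Module.natCard_eq_pow_finrank (K := ZMod 2) (V := F)
      rw [hcardF, Nat.card_zmod] at h3
      exact (Nat.pow_right_injective le_rfl h3).symm
    rwa [h2] at h1
  have hsplit : Nat.card H = Nat.card π.range * Nat.card π.ker := by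
    rw [Subgroup.card_eq_card_quotient_mul_card_subgroup π.ker,
      Nat.card_congr (QuotientGroup.quotientKerEquivRange π).toEquiv]
  have hpH : 2 ^ n - 1 ∣ Nat.card H := by
    obtain ⟨v, hv⟩ := exists_ne (0 : V)
    have h1 := orb_card (ρ := MonoidHom.id (V ≃ₗ[ZMod 2] V)) H v
    have hO : orb (MonoidHom.id (V ≃ₗ[ZMod 2] V)) H v = (Set.univ : Set V) \ {0} := by
      ext w
      constructor
      · rintro ⟨g, -, rfl⟩; exact ⟨trivial, by simp [hv]⟩
      · intro hw; exact htr v w hv hw.2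
    rw [hO, Set.ncard_diff_singleton_of_mem (Set.mem_univ _), Set.ncard_univ, card_pow, hn] at h1
    exact Dvd.intro _ h1
  have hk : Nat.card π.ker = 2 ^ n - 1 := by
    rw [hsplit] at hpH
    rcases hp.dvd_mul.1 hpH with h | h
    · exfalso
      have h1 := Nat.le_of_dvd hnp.pos (h.trans hrdvd)
      have h2 : n < 2 ^ n := Nat.lt_two_pow_self
      have h3 : n = 2 ^ n - 1 := by omega
      have h4 := hnp.two_le
      have h5 : n + 1 < 2 ^ n := by
        obtain ⟨k, rfl⟩ := Nat.exists_eq_add_of_le h4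
        have : k < 2 ^ k := Nat.lt_two_pow_self
        rw [pow_add]; omega
      omega
    · exact Nat.dvd_antisymm hkdvd h
  rcases (Nat.dvd_prime hnp).1 hrdvd with h | h
  · left
    rw [h, one_mul, hk] at hsplit
    refine ⟨?_, hsplit⟩
    haveI : Fact (2 ^ n - 1).Prime := ⟨hp⟩
    exact isCyclic_of_prime_card hsplit
  · right
    rw [h, hk] at hsplit
    refine ⟨hsplit, π.ker.map H.subtype, Subgroup.map_subtype_le _, ?_,
      isCyclic_of_surjective (Subgroup.equivMapOfInjective π.ker H.subtype Subtype.val_injective).toMonoidHom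
        (MulEquiv.surjective _), ?_⟩
    · rw [Subgroup.subgroupOf, Subgroup.comap_map_eq_self_of_injective Subtype.val_injective]
      infer_instance
    · rw [Subgroup.card_map_of_injective Subtype.val_injective, hk]

/-- Transitive linear groups of `𝔽₂ⁿ` for `2 ^ n - 1` prime. -/
theorem mersenne {n : ℕ} (hn : finrank (ZMod 2) V = n) (hp : (2 ^ n - 1).Prime)
    (H : Subgroup (V ≃ₗ[ZMod 2] V)) (htr : ∀ v w : V, v ≠ 0 → w ≠ 0 → ∃ h ∈ H, h v = w) :
    (IsCyclic H ∧ Nat.card H = 2 ^ n - 1) ∨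
      (Nat.card H = n * (2 ^ n - 1) ∧ ∃ C : Subgroup (V ≃ₗ[ZMod 2] V), C ≤ H ∧
        (C.subgroupOf H).Normal ∧ IsCyclic C ∧ Nat.card C = 2 ^ n - 1) ∨ H = ⊤ := by
  classical
  by_cases hs : Group.IsSolvable H
  · exact (semilinear hn hp H htr hs).imp_right Or.inl
  right; right
  refine top_of_not_solvable hn hp ?_ H htr hs
  by_contra hlt
  have hn2 : n = 2 := by
    rcases n with _ | _ | _ | n
    · norm_num at hp
    · norm_num at hp
    · rfl
    · omega
  subst hn2
  have h6 : Nat.card (V ≃ₗ[ZMod 2] V) = 6 := by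
    rw [card_linearEquiv, hn, Fin.prod_univ_two]
    rfl
  apply hs
  -- a group of order dividing six is solvable
  have hd : Nat.card H ∣ 6 := h6 ▸ Subgroup.card_subgroup_dvd_card H
  haveI : IsZGroup H := IsZGroup.of_squarefree <|
    Squarefree.squarefree_of_dvd hd (by decide +kernel)
  infer_instance

end Cfsg.Agent.CamKan
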