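import Cfsg.Agent.Lib.CamKan.Ant

/-!
# Linear groups transitive on pairs of distinct non-zero vectors over `𝔽₂`

The dual action has the same property, and the stabiliser of a vector acts
antiflag-transitively on the quotient.
-/

set_option autoImplicit false

namespace Cfsg.Agent.CamKan

open Module

theorem par_congr {G G' V W V' W' : Type*} [Group G] [Group G'] [AddCommGroup V]
    [Module (ZMod 2) V] [AddCommGroup V'] [Module (ZMod 2) V'] [AddCommGroup W]
    [Module (ZMod 2) W] [AddCommGroup W'] [Module (ZMod 2) W'] [Finite V] [Finite W] [Finite G]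
    [Finite G'] {D : Duo G V V'} {E : Duo G' W W'} (hD : D.Ant) (hE : E.Ant) (α : G → G')
    (hα : Function.Surjective α) (φ : V ≃ₗ[ZMod 2] W)
    (hφ : ∀ g v, φ (D.ρ g v) = E.ρ (α g) (φ v)) : par D.ρ = par E.ρ := by
  obtain ⟨v, hv⟩ := hD.nontrivial
  have horb : ∀ w, orb E.ρ (stab E.ρ (φ v)) (φ w) = φ '' orb D.ρ (stab D.ρ v) w := by
    intro w
    ext u
    constructor
    · rintro ⟨g', hg', rfl⟩
      obtain ⟨g, rfl⟩ := hα g'
      refine ⟨D.ρ g w, ⟨g, ?_, rfl⟩, hφ g w⟩
      rw [mem_stab, ← hφ] at hg'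
      exact φ.injective hg'
    · rintro ⟨_, ⟨g, hg, rfl⟩, rfl⟩
      exact ⟨α g, by rw [mem_stab, ← hφ, (mem_stab _).1 hg], (hφ g w).symm⟩
  have hU : U E.ρ (φ v) = (U D.ρ v).map φ.toLinearMap := by
    rw [U, U, Submodule.map_span, ← φ.finrank_eq]
    congr 1
    ext u
    obtain ⟨w, rfl⟩ := φ.surjective u
    simp [horb, Set.ncard_image_of_injective _ φ.injective]
  rw [← hD.dim_U hv, ← hE.dim_U (v := φ v) (by simpa using hv), hU, LinearEquiv.finrank_map_eq]

namespace Duo

variable {G : Type*} [Group G] {N N' : Type*} [AddCommGroup N] [Module (ZMod 2) N]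
  [AddCommGroup N'] [Module (ZMod 2) N']

/-- Transitivity on vectors and of the stabiliser of a vector on the others. -/
structure Top (D : Duo G N N') : Prop where
  three_le : 3 ≤ finrank (ZMod 2) N
  trans : ∀ v w : N, v ≠ 0 → w ≠ 0 → ∃ g, D.ρ g v = w
  trans2 : ∀ x v w : N, v ∉ Submodule.span (ZMod 2) {x} → w ∉ Submodule.span (ZMod 2) {x} →
    ∃ g ∈ stab D.ρ x, D.ρ g v = w

theorem stab_span {D : Duo G N N'} {x : N} :
    ∀ g ∈ stab D.ρ x, ∀ w ∈ Submodule.span (ZMod 2) {x}, D.ρ g w ∈ Submodule.span (ZMod 2) {x} := by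
  intro g hg w hw
  rcases mem_span1.1 hw with rfl | rfl
  · simp
  · rw [(mem_stab _).1 hg]; exact hw

variable [Finite N]

theorem mem_ann_span {D : Duo G N N'} {x : N} {f : N'} :
    f ∈ D.ann (Submodule.span (ZMod 2) {x}) ↔ D.b x f = 0 := by
  refine ⟨fun h => h x (Submodule.mem_span_singleton_self x), fun h w hw => ?_⟩
  rcases mem_span1.1 hw with rfl | rfl
  · simp
  · exact h

/-- The action of the stabiliser of `x` modulo `x`. -/
def quot (D : Duo G N N') (x : N) :
    Duo (stab D.ρ x) (N ⧸ Submodule.span (ZMod 2) {x}) (D.ann (Submodule.span (ZMod 2) {x})) :=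
  D.quo stab_span

@[simp] theorem quot_ρ_mk (D : Duo G N N') (x : N) (g : stab D.ρ x) (v : N) :
    (D.quot x).ρ g (Submodule.Quotient.mk v) = Submodule.Quotient.mk (D.ρ g v) := rfl

@[simp] theorem quot_b_mk (D : Duo G N N') (x : N) (v : N)
    (f : D.ann (Submodule.span (ZMod 2) {x})) :
    (D.quot x).b (Submodule.Quotient.mk v) f = D.b v f := rfl

@[simp] theorem quot_σ_coe (D : Duo G N N') (x : N) (g : stab D.ρ x)
    (f : D.ann (Submodule.span (ZMod 2) {x})) :
    ((D.quot x).σ g f : N') = D.σ g f := rfl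

theorem finrank_quot {x : N} (hx : x ≠ 0) :
    finrank (ZMod 2) (N ⧸ Submodule.span (ZMod 2) {x}) + 1 = finrank (ZMod 2) N := by
  rw [← (Submodule.span (ZMod 2) {x}).finrank_quotient_add_finrank, finrank_span_singleton hx]

namespace Top

variable {D : Duo G N N'} [Finite G] (h : D.Top)
include h

omit [Finite G] in
theorem nontrivial : Nontrivial N := by
  rw [← Finite.one_lt_card_iff_nontrivial, card_pow]
  exact Nat.one_lt_two_pow (by have := h.three_le; omega)

theorem trans' {f f' : N'} (hf : f ≠ 0) (hf' : f' ≠ 0) : ∃ g, D.σ g f = f' := by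
  haveI := h.nontrivial
  obtain ⟨g, -, hg⟩ := D.trans_dual ⊤ (fun v w hv hw => by
    obtain ⟨g, hg⟩ := h.trans v w hv hw; exact ⟨g, trivial, hg⟩) f f' hf hf'
  exact ⟨g, hg⟩

omit [Finite G] in
theorem exists_ker {f : N'} (hf : f ≠ 0) : ∃ v, v ≠ 0 ∧ D.b v f = 0 := by
  have h1 := finrank_ker_dual (φ := D.b.flip f) (D.flip_ne_zero hf)
  obtain ⟨v, hv, hv0⟩ := (LinearMap.ker (D.b.flip f)).exists_mem_ne_zero_of_ne_bot fun hb => by
    rw [hb, finrank_bot] at h1; have := h.three_le; omega
  exact ⟨v, hv0, hv⟩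

omit [Finite G] in
theorem exists_not_span (x : N) : ∃ v, v ∉ Submodule.span (ZMod 2) {x} := by
  by_contra hc; push Not at hc
  have h1 : finrank (ZMod 2) (Submodule.span (ZMod 2) ({x} : Set N)) ≤ 1 := by
    by_cases hx : x = 0
    · subst hx
      rw [Submodule.span_zero_singleton, finrank_bot]; omega
    · rw [finrank_span_singleton hx]
  rw [show Submodule.span (ZMod 2) ({x} : Set N) = ⊤ from eq_top_iff.2 fun v _ => hc v,
    finrank_top] at h1
  have := h.three_le
  omega

theorem stab_trans {x : N} (hx : x ≠ 0) {f f' : N'} (hf : f ≠ 0) (hf' : f' ≠ 0)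
    (he : D.b x f = D.b x f') : ∃ g ∈ stab D.ρ x, D.σ g f = f' := by
  classical
  haveI := D.finite_right
  refine D.orbit_complete (stab D.ρ x)
    (fun v => if v = 0 then (0 : Fin 3) else if v = x then 1 else 2)
    (fun f => if f = 0 then (0 : Fin 3) else if D.b x f = 1 then 1 else 2) ?_ ?_ ?_ ?_ ?_ f f'
    (by simp [hf, hf', he])
  · intro g hg v
    have : D.ρ g v = x ↔ v = x := by
      conv_lhs => rw [← (mem_stab _).1 hg]
      exact (D.ρ g).injective.eq_iff
    simp [this]
  · intro g hg u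
    simp [D.b_stab_left hg]
  · intro i
    fin_cases i
    · exact ⟨0, by simp⟩
    · exact ⟨x, by simp [hx]⟩
    · obtain ⟨v, hv⟩ := h.exists_not_span x
      rw [mem_span1, not_or] at hv
      exact ⟨v, by simp [hv.1, hv.2]⟩
  · intro i
    fin_cases i
    · exact ⟨0, by simp⟩
    · obtain ⟨φ, -, hφ⟩ := exists_dual_one (⊥ : Submodule (ZMod 2) N) (v := x) (by simpa using hx)
      obtain ⟨u, hu⟩ := D.exists_vec φ
      have hxu : D.b x u = 1 := (hu x).trans hφ
      have hu0 : u ≠ 0 := fun e => by simp [e] at hxu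
      exact ⟨u, by simp [hu0, hxu]⟩
    · obtain ⟨v, hv⟩ := h.exists_not_span x
      obtain ⟨φ, h1, h2⟩ := exists_dual_one _ hv
      obtain ⟨u, hu⟩ := D.exists_vec φ
      have hxu : D.b x u = 0 := (hu x).trans (h1 x (Submodule.mem_span_singleton_self x))
      have hu0 : u ≠ 0 := fun e => by have := hu v; simp [e, h2] at this
      exact ⟨u, by simp [hu0, hxu]⟩
  · intro v w hvw
    by_cases hv : v = 0
    · have hw : w = 0 := by
        by_contra hw; simp [hv, hw] at hvw; split at hvw <;> simp at hvw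
      exact ⟨1, one_mem _, by simp [hv, hw]⟩
    by_cases hvx : v = x
    · have hw : w = x := by
        by_contra hw; simp [hvx, hx, hw] at hvw; split at hvw <;> simp at hvw
      exact ⟨1, one_mem _, by simp [hvx, hw]⟩
    have hw0 : w ≠ 0 := fun e => by simp [hv, hvx, e] at hvw
    have hwx : w ≠ x := fun e => by simp [hv, hvx, hx, e] at hvw
    exact h.trans2 x v w (by simp [mem_span1, hv, hvx]) (by simp [mem_span1, hw0, hwx])

theorem fstab_trans {f : N'} (hf : f ≠ 0) {v w : N} (hv : v ≠ 0) (hw : w ≠ 0)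
    (he : D.b v f = D.b w f) : ∃ g ∈ stab D.σ f, D.ρ g v = w := by
  obtain ⟨k, hk⟩ := h.trans v w hv hw
  obtain ⟨g, hg, hgf⟩ := h.stab_trans hw (f := D.σ k f) (f' := f) (by simpa using hf) hf
    (by rw [← hk, D.b_smul, he, hk])
  exact ⟨g * k, by rw [mem_stab, mul_apply', hgf], by rw [mul_apply', hk, (mem_stab _).1 hg]⟩

theorem swap : D.swap.Top where
  three_le := by rw [D.finrank_eq]; exact h.three_le
  trans _ _ := h.trans'
  trans2 f u u' hu hu' := by
    classical
    haveI := D.finite_right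
    rw [mem_span1, not_or] at hu hu'
    by_cases hf : f = 0
    · subst hf
      obtain ⟨g, hg⟩ := h.trans' hu.1 hu'.1
      exact ⟨g, by simp, hg⟩
    refine D.orbit_complete (stab D.σ f)
      (fun v => if v = 0 then (0 : Fin 3) else if D.b v f = 1 then 1 else 2)
      (fun u => if u = 0 then (0 : Fin 3) else if u = f then 1 else 2) ?_ ?_ ?_ ?_ ?_ u u'
      (by simp [hu.1, hu.2, hu'.1, hu'.2])
    · intro g hg v
      simp [D.b_stab hg]
    · intro g hg z
      have : D.σ g z = f ↔ z = f := by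
        conv_lhs => rw [← (mem_stab _).1 hg]
        exact (D.σ g).injective.eq_iff
      simp [this]
    · intro i
      fin_cases i
      · exact ⟨0, by simp⟩
      · obtain ⟨v, hv⟩ := D.exists_one hf
        have hv0 : v ≠ 0 := fun e => by simp [e] at hv
        exact ⟨v, by simp [hv0, hv]⟩
      · obtain ⟨v, hv0, hv⟩ := h.exists_ker hf
        exact ⟨v, by simp [hv0, hv]⟩
    · intro i
      fin_cases i
      · exact ⟨0, by simp⟩
      · exact ⟨f, by simp [hf]⟩
      · exact ⟨u, by simp [hu.1, hu.2]⟩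
    · intro v w hvw
      by_cases hv : v = 0
      · have hw : w = 0 := by
          by_contra hw; simp [hv, hw] at hvw; split at hvw <;> simp at hvw
        exact ⟨1, one_mem _, by simp [hv, hw]⟩
      have hw : w ≠ 0 := fun e => by
        simp [hv, e] at hvw; split at hvw <;> simp at hvw
      refine h.fstab_trans hf hv hw ?_
      rcases z2 (D.b v f) with h1 | h1 <;> rcases z2 (D.b w f) with h2 | h2 <;>
        simp [hv, hw, h1, h2] at hvw ⊢

/-- The stabiliser of an incident pair is transitive off the hyperplane. -/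
theorem flag2 {x : N} (hx : x ≠ 0) {f : N'} (hf : f ≠ 0) (hxf : D.b x f = 0) {v : N}
    (hv : D.b v f = 1) :
    orb D.ρ (stab D.σ f ⊓ stab D.ρ x) v = {w | D.b w f = 1} := by
  have hv0 : v ≠ 0 := fun e => by simp [e] at hv
  have hOv : orb D.ρ (stab D.σ f) v = {w | D.b w f = 1} := by
    ext w
    refine ⟨?_, fun hw => h.fstab_trans hf hv0 (fun e => by simp [e] at hw) (hv.trans hw.symm)⟩
    rintro ⟨g, hg, rfl⟩; exact (D.b_stab hg v).trans hv
  have hOx : orb D.ρ (stab D.σ f) x = (LinearMap.ker (D.b.flip f) : Set N) \ {0} := by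
    ext w
    refine ⟨?_, fun hw => h.fstab_trans hf hx (by simpa using hw.2) (hxf.trans (Eq.symm hw.1))⟩
    rintro ⟨g, hg, rfl⟩
    exact ⟨(D.b_stab hg x).trans hxf, by simp [hx]⟩
  rw [orb_coprime _ x v ?_, hOv]
  rw [hOv, hOx, ncard_diff_zero,
    show {w | D.b w f = 1}.ncard = 2 ^ (finrank (ZMod 2) N - 1) from
      ncard_one (φ := D.b.flip f) (D.flip_ne_zero hf)]
  have h1 := finrank_ker_dual (φ := D.b.flip f) (D.flip_ne_zero hf)
  rw [show finrank (ZMod 2) N - 1 = finrank (ZMod 2) (LinearMap.ker (D.b.flip f)) by omega]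
  set a := 2 ^ finrank (ZMod 2) (LinearMap.ker (D.b.flip f))
  have : 1 ≤ a := Nat.one_le_two_pow
  rw [Nat.coprime_comm, show a = (a - 1) + 1 by omega]
  simp

theorem quot_ant {x : N} (hx : x ≠ 0) : (D.quot x).Ant where
  two_le := by have := finrank_quot hx; have := h.three_le; omega
  trans a c ha hc := by
    induction a using Submodule.Quotient.induction_on with | H a => ?_
    induction c using Submodule.Quotient.induction_on with | H c => ?_
    rw [Ne, Submodule.Quotient.mk_eq_zero] at ha hc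
    obtain ⟨g, hg, he⟩ := h.trans2 x a c ha hc
    exact ⟨⟨g, hg⟩, congrArg Submodule.Quotient.mk he⟩
  trans' f f' hf hf' := by
    obtain ⟨g, hg, he⟩ := h.stab_trans hx (f := f.1) (f' := f'.1)
      (fun e => hf (Subtype.ext e)) (fun e => hf' (Subtype.ext e))
      ((mem_ann_span.1 f.2).trans (mem_ann_span.1 f'.2).symm)
    exact ⟨⟨g, hg⟩, Subtype.ext he⟩
  flag f v w hv hw := by
    induction v using Submodule.Quotient.induction_on with | H v => ?_
    induction w using Submodule.Quotient.induction_on with | H w => ?_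
    have hf : (f : N') ≠ 0 := fun e => by simp [e] at hv
    obtain ⟨g, hg, he⟩ : w ∈ orb D.ρ (stab D.σ (f : N') ⊓ stab D.ρ x) v := by
      rw [h.flag2 hx hf (mem_ann_span.1 f.2) hv]; exact hw
    exact ⟨⟨g, hg.2⟩, Subtype.ext hg.1, congrArg Submodule.Quotient.mk he⟩

/-- The parameter does not depend on the point. -/
theorem par_quot {x y : N} (hx : x ≠ 0) (hy : y ≠ 0) :
    par (D.quot x).ρ = par (D.quot y).ρ := by
  obtain ⟨k, hk⟩ := h.trans x y hx hy
  let α : stab D.ρ x → stab D.ρ y := fun g => ⟨k * g * k⁻¹, by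
    rw [← hk]; exact (stab_conj D.ρ).2 g.2⟩
  refine par_congr (h.quot_ant hx) (h.quot_ant hy) α ?_
    (Submodule.Quotient.equiv _ _ (D.ρ k) (by rw [Submodule.map_span]; simp [hk])) ?_
  · intro g
    refine ⟨⟨k⁻¹ * g * k, ?_⟩, Subtype.ext (by simp [α, mul_assoc])⟩
    have := g.2
    rw [mem_stab] at this ⊢
    rw [mul_apply', mul_apply', hk, this, ← hk, inv_apply']
  · intro g v
    induction v using Submodule.Quotient.induction_on with | H v => ?_
    simp [α, Submodule.Quotient.equiv, mul_apply', inv_apply']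

end Top

end Duo

end Cfsg.Agent.CamKan
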